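import Cfsg.Agent.S5236
import Cfsg.Agent.MetacyclicP.Split
import Cfsg.Agent.PGroup.Normal

/-!
For an odd prime, a strongly closed metacyclic subgroup of a saturated system is normal.
-/

set_option autoImplicit false

open scoped IsMulCommutative commutatorElement

namespace CfsgLib.MetacyclicFusion

open CfsgLib.Fus CfsgLib.FusAut CfsgLib.Fusion.Alperin Cfsg.FusionSystem

universe u

variable {p : ℕ} [hp : Fact p.Prime]

/-- In a metacyclic `p`-group, `p` odd, the elements of order dividing `p` form an abelian group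
of order at most `p ^ 2`. -/
theorem exists_omega {R : Type u} [Group R] [Finite R] (hp2 : p ≠ 2) (hR : IsPGroup p R)
    (hm : Cfsg.IsMetacyclic R) :
    ∃ E : Subgroup R, IsMulCommutative E ∧ Nat.card E ≤ p ^ 2 ∧ ∀ x, x ∈ E ↔ x ^ p = 1 := by
  by_cases hc : IsCyclic R
  · classical
    letI : CommGroup R := IsCyclic.commGroup
    refine ⟨(powMonoidHom p : R →* R).ker, inferInstance, ?_, fun x => Iff.rfl⟩
    letI : Fintype R := Fintype.ofFinite R
    have h1 := IsCyclic.card_pow_eq_one_le (α := R) hp.out.pos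
    have h2 : Nat.card (powMonoidHom p : R →* R).ker =
        (Finset.univ.filter fun a : R => a ^ p = 1).card := by
      rw [Nat.card_eq_fintype_card]
      exact Fintype.card_of_subtype _ fun x => by simp
    rw [h2]
    exact h1.trans (Nat.le_self_pow two_ne_zero p)
  · obtain ⟨D⟩ := CfsgLib.MetacyclicP.exists_gens hR hm
    obtain ⟨E, hEc, hE, hmem⟩ := D.omega_spec hp2 hR hc
    exact ⟨E, hEc, hE.le, hmem⟩

/-- An element of a `p`-group fixing `z` and sending `e` to `z ^ i * e ^ j`, where `z ^ _ ≠ e`,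
has `j = 1` modulo `p`. -/
theorem conj_unipotent {G : Type u} [Group G] {g z e : G} {k : ℕ} (hg : g ^ p ^ k = 1)
    (hze : Commute z e) (hgz : g * z * g⁻¹ = z) {i j : ℤ} (h : g * e * g⁻¹ = z ^ i * e ^ j)
    (hne : ∀ a b : ℤ, z ^ a * e ^ b = 1 → (p : ℤ) ∣ b) (hep : e ^ p = 1) :
    g * e * g⁻¹ = z ^ i * e := by
  have hz : ∀ a : ℤ, g * z ^ a * g⁻¹ = z ^ a := fun a => by rw [← conj_zpow, hgz]
  have hpow : ∀ n : ℕ, ∃ a : ℤ, g ^ n * e * (g ^ n)⁻¹ = z ^ a * e ^ (j ^ n) := by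
    intro n
    induction n with
    | zero => exact ⟨0, by simp⟩
    | succ n ih =>
      obtain ⟨a, ha⟩ := ih
      refine ⟨a + i * j ^ n, ?_⟩
      have e1 : g ^ (n + 1) * e * (g ^ (n + 1))⁻¹ = g * (g ^ n * e * (g ^ n)⁻¹) * g⁻¹ := by
        rw [pow_succ']; group
      rw [e1, ha, show g * (z ^ a * e ^ (j ^ n)) * g⁻¹ =
        g * z ^ a * g⁻¹ * (g * e ^ (j ^ n) * g⁻¹) by group, hz, ← conj_zpow, h,
        (hze.zpow_zpow i j).mul_zpow, ← zpow_mul, ← zpow_mul, ← mul_assoc, ← zpow_add, ← pow_succ']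
  obtain ⟨a, ha⟩ := hpow (p ^ k)
  rw [hg, one_mul, inv_one, mul_one] at ha
  have hdvd : (p : ℤ) ∣ j ^ p ^ k - 1 := hne a _ (by
    rw [zpow_sub, zpow_one, ← mul_assoc, ← ha, mul_inv_cancel])
  have hj : (p : ℤ) ∣ j - 1 := by
    rw [← ZMod.intCast_zmod_eq_zero_iff_dvd] at hdvd ⊢
    push_cast at hdvd ⊢
    rwa [ZMod.pow_card_pow] at hdvd
  obtain ⟨c, hc⟩ := hj
  have hej : e ^ j = e := by
    rw [show j = 1 + p * c by omega, zpow_add, zpow_one, zpow_mul, zpow_natCast, hep, one_zpow,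
      mul_one]
  rw [h, hej]

/-- An element of a `p`-group fixes every element of order `p` generating a normalised subgroup. -/
theorem conj_fix {G : Type u} [Group G] {g z : G} {k : ℕ} (hg : g ^ p ^ k = 1) (hzp : z ^ p = 1)
    (hz1 : z ≠ 1) (h : g * z * g⁻¹ ∈ Subgroup.zpowers z) : g * z * g⁻¹ = z := by
  obtain ⟨j, hj⟩ := Subgroup.mem_zpowers_iff.1 h
  have := conj_unipotent (p := p) hg (Commute.one_left z) (by simp) (i := 0) (j := j) (e := z)
    (by rw [zpow_zero, one_mul, hj]) (fun a b hab => by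
      rw [one_zpow, one_mul, ← orderOf_dvd_iff_zpow_eq_one,
        orderOf_eq_prime hzp hz1] at hab
      exact hab) hzp
  simpa using this

section Linear

variable {E : Type*} [CommGroup E]

theorem exists_inversion (hp2 : p ≠ 2) (hexp : ∀ x : E, x ^ p = 1) {z e : E}
    (hgen : ∀ x : E, ∃ a b : ℤ, x = z ^ a * e ^ b) (Γ : Subgroup (MulAut E)) {u v : MulAut E}
    (hu : u ∈ Γ) (hv : v ∈ Γ) {i a b : ℤ} (hi : ¬ (p : ℤ) ∣ i) (hb : ¬ (p : ℤ) ∣ b)
    (huz : u z = z) (hue : u e = z ^ i * e) (hvz : v z = z ^ a * e ^ b) (hve : v e = z) :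
    ∃ w ∈ Γ, ∀ x : E, w x = x⁻¹ := by
  have hmod : ∀ (x : E) (m n : ℤ), (m : ZMod p) = n → x ^ m = x ^ n := by
    intro x m n h
    rw [ZMod.intCast_eq_intCast_iff_dvd_sub] at h
    obtain ⟨c, hc⟩ := h
    rw [show n = m + p * c by omega, zpow_add, zpow_mul, zpow_natCast, hexp, one_zpow, mul_one]
  have hi0 : (i : ZMod p) ≠ 0 := fun h => hi ((ZMod.intCast_zmod_eq_zero_iff_dvd _ _).1 h)
  have hb0 : (b : ZMod p) ≠ 0 := fun h => hb ((ZMod.intCast_zmod_eq_zero_iff_dvd _ _).1 h)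
  have hpow : ∀ (f : MulAut E) (x y : E), f x = x → f y = x * y →
      ∀ n : ℕ, (f ^ n) x = x ∧ (f ^ n) y = x ^ n * y := by
    intro f x y hx hy n
    induction n with
    | zero => simp
    | succ n ih =>
      rw [pow_succ', MulAut.mul_apply, MulAut.mul_apply, ih.1, ih.2, map_mul, map_pow, hx, hy]
      exact ⟨rfl, by rw [pow_succ, mul_assoc]⟩
  -- normalise `u`
  obtain ⟨n, hn⟩ : ∃ n : ℕ, ((n : ℤ) : ZMod p) = (i : ZMod p)⁻¹ :=
    ⟨(i : ZMod p)⁻¹.val, by rw [Int.cast_natCast, ZMod.natCast_zmod_val]⟩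
  have hun : ∀ m : ℕ, (u ^ m) z = z ∧ (u ^ m) e = z ^ (i * m) * e := by
    intro m
    induction m with
    | zero => simp
    | succ m ih =>
      rw [pow_succ', MulAut.mul_apply, MulAut.mul_apply, ih.1, ih.2, map_mul, map_zpow, huz, hue,
        ← mul_assoc, ← zpow_add]
      exact ⟨rfl, by push_cast; ring_nf⟩
  let U : MulAut E := u ^ n
  have hU : U ∈ Γ := pow_mem hu n
  have hUz : U z = z := (hun n).1
  have hUe : U e = z * e := by
    rw [(hun n).2, hmod z (i * n) 1 (by push_cast; rw [← Int.cast_natCast, hn, mul_inv_cancel₀ hi0]),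
      zpow_one]
  obtain ⟨t, ht⟩ : ∃ t : ℕ, ((t : ℤ) : ZMod p) = -(a : ZMod p) / b :=
    ⟨(-(a : ZMod p) / b).val, by rw [Int.cast_natCast, ZMod.natCast_zmod_val]⟩
  let V : MulAut E := U ^ t * v
  have hV : V ∈ Γ := mul_mem (pow_mem hU t) hv
  have hVz : V z = e ^ b := by
    show (U ^ t) (v z) = _
    rw [hvz, map_mul, map_zpow, map_zpow, (hpow U z e hUz hUe t).1, (hpow U z e hUz hUe t).2,
      mul_zpow, ← zpow_natCast z t, ← zpow_mul, ← mul_assoc, ← zpow_add,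
      hmod z (a + t * b) 0 (by
        push_cast
        rw [← Int.cast_natCast, ht, div_mul_cancel₀ _ hb0, add_neg_cancel]),
      zpow_zero, one_mul]
  have hVe : V e = z := by
    show (U ^ t) (v e) = _
    rw [hve, (hpow U z e hUz hUe t).1]
  let L₀ : MulAut E := V⁻¹ * U * V
  have hL₀ : L₀ ∈ Γ := mul_mem (mul_mem (inv_mem hV) hU) hV
  have hL₀e : L₀ e = e := by
    show V⁻¹ (U (V e)) = e
    rw [hVe, hUz, MulAut.inv_apply, MulEquiv.symm_apply_eq]
    exact hVe.symm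
  have hL₀z : L₀ z = e ^ b * z := by
    show V⁻¹ (U (V z)) = e ^ b * z
    rw [hVz, map_zpow, hUe, MulAut.inv_apply, MulEquiv.symm_apply_eq, map_mul, map_zpow, hVe, hVz,
      mul_zpow]
  obtain ⟨k, hk⟩ : ∃ k : ℕ, ((k : ℤ) : ZMod p) = -(b : ZMod p)⁻¹ :=
    ⟨(-(b : ZMod p)⁻¹).val, by rw [Int.cast_natCast, ZMod.natCast_zmod_val]⟩
  clear_value L₀
  let L : MulAut E := L₀ ^ k
  have hLk : ∀ m : ℕ, (L₀ ^ m) e = e ∧ (L₀ ^ m) z = e ^ (b * m) * z := by
    intro m
    induction m with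
    | zero => simp
    | succ m ih =>
      rw [pow_succ', MulAut.mul_apply, MulAut.mul_apply, ih.1, ih.2, map_mul, map_zpow, hL₀e, hL₀z,
        ← mul_assoc, ← zpow_add]
      exact ⟨rfl, by push_cast; ring_nf⟩
  have hLe : L e = e := (hLk k).1
  have hLz : L z = e⁻¹ * z := by
    rw [(hLk k).2, hmod e (b * k) (-1) (by
      push_cast; rw [← Int.cast_natCast, hk, mul_neg, mul_inv_cancel₀ hb0]), zpow_neg_one]
  let w : MulAut E := U * L * U
  have hw : w ∈ Γ := mul_mem (mul_mem hU (pow_mem hL₀ k)) hU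
  have hwz : w z = e⁻¹ := by
    show U (L (U z)) = _
    rw [hUz, hLz, map_mul, map_inv, hUz, hUe, mul_inv_rev, inv_mul_cancel_right]
  have hwe : w e = z := by
    show U (L (U e)) = _
    rw [hUe, map_mul L, hLz, hLe, mul_comm e⁻¹ z, inv_mul_cancel_right, hUz]
  refine ⟨w * w, mul_mem hw hw, fun x => ?_⟩
  obtain ⟨a', b', rfl⟩ := hgen x
  show w (w (z ^ a' * e ^ b')) = _
  simp only [map_mul, map_zpow, map_inv, hwz, hwe]
  rw [mul_inv, inv_zpow, inv_zpow, mul_comm]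

end Linear

section Main

variable {Ω : Type*} [Group Ω] {S : Subgroup Ω} [Finite S]

/-- For `p` odd a strongly closed metacyclic subgroup is normal in the system. -/
theorem isNormal_of_metacyclic_odd (hS : IsPGroup p S) {F : Cfsg.FusionSystem S}
    (hF : F.IsSaturated p) (hp2 : p ≠ 2) {P : Subgroup Ω} (hP : F.StronglyClosed P)
    (hm : Cfsg.IsMetacyclic P) : F.IsNormal P := by
  have : Finite P := finite_of_le hP.1
  have hPp : IsPGroup p P := hS.to_le hP.1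
  obtain ⟨E₀, hE₀c, hE₀card, hE₀mem⟩ := exists_omega hp2 hPp hm
  let E : Subgroup Ω := Cfsg.omegaOne p P
  have hEP : E ≤ P := Cfsg.Agent.S5236.omega_le p P
  have hEeq : E = E₀.map P.subtype := by
    apply le_antisymm
    · show Cfsg.omegaOne p P ≤ _
      rw [Cfsg.omegaOne, Subgroup.closure_le]
      exact fun x hx => ⟨⟨x, hx.1⟩, (hE₀mem _).2 (Subtype.ext hx.2), rfl⟩
    · rintro _ ⟨x, hx, rfl⟩
      exact Subgroup.subset_closure ⟨x.2, congrArg Subtype.val ((hE₀mem x).1 hx)⟩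
  have hmemE : ∀ x, x ∈ E ↔ x ∈ P ∧ x ^ p = 1 := by
    intro x
    refine ⟨fun hx => ?_, fun hx => Subgroup.subset_closure hx⟩
    rw [hEeq] at hx
    obtain ⟨y, hy, rfl⟩ := hx
    exact ⟨y.2, congrArg Subtype.val ((hE₀mem y).1 hy)⟩
  have hEcomm : ∀ x ∈ E, ∀ y ∈ E, x * y = y * x := by
    rw [hEeq]
    rintro _ ⟨x, hx, rfl⟩ _ ⟨y, hy, rfl⟩
    exact congrArg P.subtype (congrArg Subtype.val (mul_comm (⟨x, hx⟩ : E₀) ⟨y, hy⟩))
  have hEcard : Nat.card E ≤ p ^ 2 := by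
    rw [hEeq, Subgroup.card_map_of_injective P.subtype_injective]
    exact hE₀card
  have hEsc : F.StronglyClosed E := by
    refine ⟨hEP.trans hP.1, fun R hR φ hφ x => (hmemE _).2 ⟨hP.2 R (hR.trans hEP) φ hφ x, ?_⟩⟩
    rw [← map_pow, show x ^ p = 1 from Subtype.ext ((hmemE _).1 (hR x.2)).2, map_one]
  have hbot : F.StronglyClosed ⊥ := by
    refine ⟨bot_le, fun R hR φ _ x => ?_⟩
    rw [show x = 1 from Subtype.ext (Subgroup.mem_bot.1 (hR x.2)), map_one]
    exact one_mem _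
  have hcrit := Cfsg.Agent.S5236.result p hS F hF hp2 P hP
  by_cases hcen : ⁅E, P⁆ ≤ ⊥
  · refine hcrit.2 ⟨1, ![⊥, E], rfl, rfl, ?_, ?_, ?_⟩
    · intro i j hij
      fin_cases i <;> fin_cases j <;> simp_all
    · intro i
      fin_cases i
      exacts [hbot, hEsc]
    · intro i
      fin_cases i
      exact hcen
  -- `E` has order `p ^ 2` and `P` acts on it as a transvection group
  let Z₁ : Subgroup Ω := E ⊓ Subgroup.centralizer (P : Set Ω)
  have hEZ : ¬ E ≤ Z₁ := fun h => hcen (Subgroup.commutator_le.2 fun x hx g hg => by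
    rw [Subgroup.mem_bot, commutatorElement_eq_one_iff_mul_comm]
    exact ((h hx).2 g hg).symm)
  have hEfin : Finite E := finite_of_le (hEP.trans hP.1)
  have hEp : IsPGroup p E := hPp.to_le hEP
  have hEne : E ≠ ⊥ := fun h => hEZ (h ▸ bot_le)
  have hZ1ne : Z₁ ≠ ⊥ := by
    have hn : (E.subgroupOf P).Normal := Subgroup.normal_subgroupOf_of_le_normalizer
      (hP.1.trans (le_normalizer_of_stronglyClosed hEsc))
    have h0 : E.subgroupOf P ≠ ⊥ := fun h => hEne (by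
      rw [← Subgroup.map_subgroupOf_eq_of_le hEP, h, Subgroup.map_bot])
    intro hb
    refine CfsgLib.PGroup.inf_center_ne_bot hPp _ h0 (eq_bot_iff.2 fun x hx => ?_)
    rw [Subgroup.mem_bot]
    refine Subtype.ext (Subgroup.mem_bot.1 (hb ▸ ⟨hx.1, fun y hy => ?_⟩))
    exact congrArg Subtype.val (Subgroup.mem_center_iff.1 hx.2 ⟨y, hy⟩)
  obtain ⟨z₀, hz₀, hz₀1⟩ : ∃ z ∈ Z₁, z ≠ 1 := by
    by_contra h
    push_neg at h
    exact hZ1ne (eq_bot_iff.2 fun x hx => h x hx)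
  -- any element of `Z₁` other than `1` and any element of `E` outside `Z₁` generate `E`
  have hbasis : ∀ z ∈ Z₁, z ≠ 1 → ∀ e ∈ E, e ∉ Z₁ →
      (∀ a b : ℤ, z ^ a * e ^ b = 1 → (p : ℤ) ∣ b) ∧ ∀ x ∈ E, ∃ a b : ℤ, x = z ^ a * e ^ b := by
    intro z hz hz1 e he heZ
    have hez : e ∉ Subgroup.zpowers z := fun h => heZ ((Subgroup.zpowers_le.2 hz) h)
    have hzo : orderOf z = p := orderOf_eq_prime ((hmemE _).1 hz.1).2 hz1
    have hne : ∀ a b : ℤ, z ^ a * e ^ b = 1 → (p : ℤ) ∣ b := by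
      intro a b hab
      by_contra hb
      obtain ⟨c, d, hcd⟩ := ((Nat.prime_iff_prime_int.1 hp.out).coprime_iff_not_dvd.2 hb)
      apply hez
      have h1 : e ^ b = (z ^ a)⁻¹ := eq_inv_of_mul_eq_one_right hab
      have h2 : e = (e ^ b) ^ d := by
        rw [← zpow_mul, show b * d = 1 - p * c by linarith, zpow_sub, zpow_one, zpow_mul,
          zpow_natCast, ((hmemE _).1 he).2, one_zpow, inv_one, mul_one]
      rw [h2, h1]
      exact zpow_mem (inv_mem (zpow_mem (Subgroup.mem_zpowers z) a)) d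
    refine ⟨hne, fun x hx => ?_⟩
    let X : Subgroup E := Subgroup.zpowers (⟨z, hz.1⟩ : E)
    let Y : Subgroup E := Subgroup.zpowers (⟨e, he⟩ : E)
    have htop : X ⊔ Y = ⊤ := by
      refine Subgroup.eq_top_of_le_card _ ?_
      obtain ⟨m, hm'⟩ := IsPGroup.iff_card.1 (hEp.to_subgroup (X ⊔ Y))
      have hX : Nat.card X = p := by rw [Nat.card_zpowers, ← Subgroup.orderOf_coe, hzo]
      have hlt : Nat.card X < Nat.card (X ⊔ Y : Subgroup E) := by
        refine lt_of_le_of_ne (Subgroup.card_le_of_le le_sup_left) fun h => hez ?_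
        have h2 : X = X ⊔ Y := Subgroup.eq_of_le_of_card_ge le_sup_left h.ge
        have h3 : (⟨e, he⟩ : E) ∈ X := h2 ▸ Subgroup.mem_sup_right (Subgroup.mem_zpowers _)
        obtain ⟨c, hc⟩ := Subgroup.mem_zpowers_iff.1 h3
        exact Subgroup.mem_zpowers_iff.2 ⟨c, congrArg Subtype.val hc⟩
      rw [hm', hX] at hlt
      have h2m : 2 ≤ m := by
        by_contra h
        have : p ^ m ≤ p ^ 1 := Nat.pow_le_pow_right hp.out.pos (by omega)
        rw [pow_one] at this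
        omega
      calc Nat.card E ≤ p ^ 2 := hEcard
        _ ≤ p ^ m := Nat.pow_le_pow_right hp.out.pos h2m
        _ = _ := hm'.symm
    haveI : IsMulCommutative E := ⟨⟨fun a b => Subtype.ext (hEcomm _ a.2 _ b.2)⟩⟩
    have hxm : (⟨x, hx⟩ : E) ∈ X ⊔ Y := htop ▸ Subgroup.mem_top _
    obtain ⟨y, hy, y', hy', hyy⟩ := Subgroup.mem_sup.1 hxm
    obtain ⟨a, rfl⟩ := Subgroup.mem_zpowers_iff.1 hy
    obtain ⟨b, rfl⟩ := Subgroup.mem_zpowers_iff.1 hy'
    exact ⟨a, b, (congrArg Subtype.val hyy).symm⟩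
  have hgpow : ∀ g ∈ S, ∃ k, g ^ p ^ k = 1 := fun g hg => by
    obtain ⟨k, hk⟩ := hS ⟨g, hg⟩
    exact ⟨k, congrArg Subtype.val hk⟩
  obtain ⟨e₀, he₀, he₀Z⟩ : ∃ e ∈ E, e ∉ Z₁ := Set.not_subset.1 hEZ
  have hgenZ : ∀ z ∈ Z₁, z ≠ 1 → ∀ x ∈ Z₁, x ∈ Subgroup.zpowers z := by
    intro z hz hz1 x hx
    obtain ⟨hne, hgen⟩ := hbasis z hz hz1 e₀ he₀ he₀Z
    obtain ⟨a, b, rfl⟩ := hgen x hx.1
    by_cases hb : (p : ℤ) ∣ b
    · obtain ⟨c, rfl⟩ := hb
      rw [zpow_mul, zpow_natCast, ((hmemE _).1 he₀).2, one_zpow, mul_one]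
      exact zpow_mem (Subgroup.mem_zpowers z) a
    · exfalso
      apply he₀Z
      obtain ⟨c, d, hcd⟩ := ((Nat.prime_iff_prime_int.1 hp.out).coprime_iff_not_dvd.2 hb)
      have h2 : e₀ = ((z ^ a)⁻¹ * (z ^ a * e₀ ^ b)) ^ d := by
        rw [inv_mul_cancel_left, ← zpow_mul, show b * d = 1 - p * c by linarith, zpow_sub, zpow_one,
          zpow_mul, zpow_natCast, ((hmemE _).1 he₀).2, one_zpow, inv_one, mul_one]
      rw [h2]
      exact zpow_mem (mul_mem (inv_mem (zpow_mem hz a)) hx) d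
  have hgfix : ∀ z ∈ Z₁, ∀ g ∈ P, g * z * g⁻¹ = z := fun z hz g hg => by
    rw [show g * z = z * g from hz.2 g hg, mul_inv_cancel_right]
  have hEPZ : ⁅E, P⁆ ≤ Z₁ := Subgroup.commutator_le.2 fun x hx g hg => by
    by_cases hxZ : x ∈ Z₁
    · rw [commutatorElement_eq_one_iff_mul_comm.2 (hxZ.2 g hg).symm]
      exact one_mem _
    obtain ⟨hne, hgen⟩ := hbasis z₀ hz₀ hz₀1 x hx hxZ
    have hgx : g * x * g⁻¹ ∈ E :=
      conj_mem_of_normalizer (le_normalizer_of_stronglyClosed hEsc (hP.1 hg)) hx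
    obtain ⟨i, j, hij⟩ := hgen _ hgx
    obtain ⟨k, hk⟩ := hgpow g (hP.1 hg)
    have h := conj_unipotent hk (hEcomm _ hz₀.1 _ hx) (hgfix _ hz₀ g hg) hij hne ((hmemE _).1 hx).2
    have : ⁅x, g⁆ = (z₀ ^ i)⁻¹ := by
      have h2 : g * x⁻¹ * g⁻¹ = (g * x * g⁻¹)⁻¹ := by group
      rw [commutatorElement_def, show x * g * x⁻¹ * g⁻¹ = x * (g * x⁻¹ * g⁻¹) by group, h2, h]
      group
    rw [this]
    exact inv_mem (zpow_mem hz₀ i)
  by_cases hZsc : F.StronglyClosed Z₁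
  · refine hcrit.2 ⟨2, ![⊥, Z₁, E], rfl, rfl, ?_, ?_, ?_⟩
    · refine Fin.monotone_iff_le_succ.2 fun i => ?_
      fin_cases i
      exacts [bot_le, inf_le_left]
    · intro i
      fin_cases i
      exacts [hbot, hZsc, hEsc]
    · intro i
      fin_cases i
      · show ⁅Z₁, P⁆ ≤ ⊥
        exact Subgroup.commutator_le.2 fun x hx g hg => by
          rw [Subgroup.mem_bot, commutatorElement_eq_one_iff_mul_comm]
          exact (hx.2 g hg).symm
      · exact hEPZ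
  exfalso
  obtain ⟨R, hR, φ, hφ, x₁, hx₁⟩ : ∃ R, R ≤ Z₁ ∧ ∃ φ ∈ F.Hom R, ∃ x : R, φ x ∉ Z₁ := by
    by_contra h
    push_neg at h
    exact hZsc ⟨(inf_le_left.trans hEP).trans hP.1, h⟩
  let z : Ω := x₁
  let e : Ω := φ x₁
  have hz : z ∈ Z₁ := hR x₁.2
  have hz1 : z ≠ 1 := fun h => hx₁ (by rw [show x₁ = 1 from Subtype.ext h, map_one]; exact one_mem _)
  have he : e ∈ E := hEsc.2 R (hR.trans inf_le_left) φ hφ x₁
  obtain ⟨hne, hgen⟩ := hbasis z hz hz1 e he hx₁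
  have hzp : z ^ p = 1 := ((hmemE _).1 hz.1).2
  have hep : e ^ p = 1 := ((hmemE _).1 he).2
  have hzS : z ∈ S := hP.1 (hEP hz.1)
  have heS : e ∈ S := hP.1 (hEP he)
  -- `z` is central in `S`
  have hnormS := le_normalizer_of_stronglyClosed (F := F) hP
  have hzc : ∀ s ∈ S, s * z * s⁻¹ = z := by
    intro s hs
    obtain ⟨k, hk⟩ := hgpow s hs
    refine conj_fix hk hzp hz1 (hgenZ z hz hz1 _ ⟨conj_mem_of_normalizer
      (le_normalizer_of_stronglyClosed hEsc hs) hz.1, fun g hg => ?_⟩)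
    have hg' : s⁻¹ * g * s ∈ P := (Subgroup.mem_normalizer_iff''.1 (hnormS hs) g).1 hg
    have := hz.2 _ hg'
    calc g * (s * z * s⁻¹) = s * ((s⁻¹ * g * s) * z) * s⁻¹ := by group
      _ = s * (z * (s⁻¹ * g * s)) * s⁻¹ := by rw [this]
      _ = _ := by group
  let Zz : Subgroup Ω := Subgroup.zpowers z
  have hZzS : Zz ≤ S := Subgroup.zpowers_le.2 hzS
  have hZzcen : S ≤ Subgroup.centralizer (Zz : Set Ω) := by
    intro s hs y hy
    obtain ⟨c, rfl⟩ := Subgroup.mem_zpowers_iff.1 hy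
    have h := congrArg (fun t => t ^ c * s) (hzc s hs)
    rw [conj_zpow, inv_mul_cancel_right] at h
    exact h.symm
  have hrec : F.IsReceptive Zz := by
    refine receptive_of_fullyCentralized hS hF ⟨hZzS, fun Q _ => ?_⟩
    have : Finite (Cfsg.FusionSystem.centralizerIn S Zz) := finite_of_le (centralizerIn_le Zz)
    refine Subgroup.card_le_of_le fun g hg => ⟨hg.1, hZzcen hg.1⟩
  -- a map sending `e` to `z`
  have hRz : R = Zz := by
    refine le_antisymm (fun r hr => hgenZ z hz hz1 r (hR hr)) (Subgroup.zpowers_le.2 x₁.2)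
  let Ee : Subgroup Ω := Subgroup.zpowers e
  have hφr : φ.range = Ee := by
    apply le_antisymm
    · rintro _ ⟨r, rfl⟩
      obtain ⟨c, hc⟩ := Subgroup.mem_zpowers_iff.1 (hRz ▸ r.2 : (r : Ω) ∈ Zz)
      rw [show r = x₁ ^ c from Subtype.ext hc.symm, map_zpow]
      exact zpow_mem (Subgroup.mem_zpowers e) c
    · exact Subgroup.zpowers_le.2 ⟨x₁, rfl⟩
  obtain ⟨φ', hφ', hφ'r, hφ'φ, -⟩ := exists_inv F hφ hφr
  rw [hRz] at hφ'r
  let N : Subgroup Ω := S ⊓ Subgroup.centralizer {e}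
  have hN : N ≤ Cfsg.FusionSystem.extender S Ee φ' := by
    intro g hg
    have hge : ∀ y ∈ Ee, g * y * g⁻¹ = y := by
      intro y hy
      obtain ⟨c, rfl⟩ := Subgroup.mem_zpowers_iff.1 hy
      rw [← conj_zpow, (Subgroup.mem_centralizer_singleton_iff.1 hg.2), mul_inv_cancel_right]
    refine mem_extender_iff.2 ⟨hg.1, ?_, 1, S.one_mem, fun y hy => ?_⟩
    · exact Subgroup.centralizer_le_normalizer (Ee : Set Ω) fun y hy => by
        have := hge y hy
        calc y * g = g * y * g⁻¹ * g := by rw [this]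
          _ = g * y := by group
    · rw [one_mul, inv_one, mul_one]
      exact congrArg φ' (Subtype.ext (hge y y.2))
  have hEeN : Ee ≤ N := Subgroup.zpowers_le.2 ⟨heS, Subgroup.mem_centralizer_singleton_iff.2 rfl⟩
  obtain ⟨ψ, hψ, hψe⟩ := exists_ext hrec hφ' hφ'r hEeN hN
  have hEN : E ≤ N := fun x hx => ⟨hP.1 (hEP hx),
    Subgroup.mem_centralizer_singleton_iff.2 (hEcomm x hx e he)⟩
  -- automorphisms of `E`
  haveI : IsMulCommutative E := ⟨⟨fun a b => Subtype.ext (hEcomm _ a.2 _ b.2)⟩⟩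
  have hψE : ∀ x : E, ψ (Subgroup.inclusion hEN x) ∈ E := fun x =>
    hEsc.2 E le_rfl _ (restrict_mem F hψ hEN) x
  let vf : E →* E := (ψ.comp (Subgroup.inclusion hEN)).codRestrict E hψE
  have hvinj : Function.Injective vf := fun x y hxy => Subgroup.inclusion_injective hEN
    (F.injective_of_mem hψ (congrArg Subtype.val hxy))
  let v : MulAut E := MulEquiv.ofBijective vf ⟨hvinj, Finite.surjective_of_injective hvinj⟩
  have hv : v ∈ F.autGroup E :=
    mem_autGroup_of_apply F (restrict_mem F hψ hEN) fun x => rfl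
  let zE : E := ⟨z, hz.1⟩
  let eE : E := ⟨e, he⟩
  have hve : v eE = zE := by
    apply Subtype.ext
    show ψ (Subgroup.inclusion hEN eE) = z
    have h1 := hψe ⟨e, Subgroup.mem_zpowers e⟩
    rw [hφ'φ x₁ (Subgroup.mem_zpowers e)] at h1
    exact h1
  obtain ⟨a, b, hvz⟩ : ∃ a b : ℤ, v zE = zE ^ a * eE ^ b := by
    obtain ⟨a, b, h⟩ := hgen _ (v zE).2
    exact ⟨a, b, Subtype.ext (by simpa using h)⟩
  have hb : ¬ (p : ℤ) ∣ b := by
    rintro ⟨c, rfl⟩
    rw [zpow_mul, zpow_natCast, show eE ^ p = 1 from Subtype.ext hep, one_zpow, mul_one] at hvz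
    have hvz' : v zE = v (eE ^ a) := by rw [map_zpow, hve, hvz]
    have h : z = e ^ a := congrArg Subtype.val (v.injective hvz')
    have h2 := hne 1 (-a) (by rw [zpow_one, zpow_neg, ← h]; exact mul_inv_cancel z)
    obtain ⟨d, hd⟩ := h2
    rw [show a = p * (-d) by linarith, zpow_mul, zpow_natCast, hep, one_zpow] at h
    exact hz1 h
  obtain ⟨g, hg, hge⟩ : ∃ g ∈ P, g * e * g⁻¹ ≠ e := by
    by_contra h
    push_neg at h
    refine hx₁ ⟨he, fun g hg => ?_⟩
    calc g * e = g * e * g⁻¹ * g := by group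
      _ = e * g := by rw [h g hg]
  have hgN : g ∈ Subgroup.normalizer (E : Set Ω) := le_normalizer_of_stronglyClosed hEsc (hP.1 hg)
  let u : MulAut E := conjAut hgN
  have hu : u ∈ F.autGroup E :=
    autInducedBy_le_autGroup F hEsc.1 (conjAut_mem_autInducedBy hgN (hP.1 hg))
  obtain ⟨i, hi', hi⟩ : ∃ i : ℤ, g * e * g⁻¹ = z ^ i * e ∧ ¬ (p : ℤ) ∣ i := by
    obtain ⟨i, j, hij⟩ := hgen _ (conj_mem_of_normalizer hgN he)
    obtain ⟨k, hk⟩ := hgpow g (hP.1 hg)
    have h := conj_unipotent hk (hEcomm _ hz.1 _ he) (hgfix _ hz g hg) hij hne hep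
    refine ⟨i, h, ?_⟩
    rintro ⟨c, rfl⟩
    exact hge (by rw [h, zpow_mul, zpow_natCast, hzp, one_zpow, one_mul])
  have huz : u zE = zE := Subtype.ext (hgfix _ hz g hg)
  have hue : u eE = zE ^ i * eE := Subtype.ext hi'
  have hexp : ∀ x : E, x ^ p = 1 := fun x => Subtype.ext ((hmemE _).1 x.2).2
  have hgenE : ∀ x : E, ∃ a b : ℤ, x = zE ^ a * eE ^ b := fun x => by
    obtain ⟨a, b, h⟩ := hgen _ x.2
    exact ⟨a, b, Subtype.ext (by simpa using h)⟩
  obtain ⟨w, hw, hwinv⟩ := exists_inversion hp2 hexp hgenE _ hu hv hi hb huz hue hvz hve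
  -- extend the inversion to `S`
  have hEfn : F.IsFullyNormalized E := by
    refine ⟨hEsc.1, fun Q _ => ?_⟩
    have : Finite (Cfsg.FusionSystem.normalizerIn S E) := finite_of_le (normalizerIn_le E)
    exact Subgroup.card_le_of_le fun g hg => ⟨hg.1, le_normalizer_of_stronglyClosed hEsc hg.1⟩
  have hext : S ≤ Cfsg.FusionSystem.extender S E (E.subtype.comp w.toMonoidHom) := by
    intro s hs
    refine mem_extender_iff.2 ⟨hs, le_normalizer_of_stronglyClosed hEsc hs, s, hs, fun x hx => ?_⟩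
    show ((w ⟨_, hx⟩ : E) : Ω) = s * ((w x : E) : Ω) * s⁻¹
    rw [hwinv, hwinv]
    simp [mul_assoc]
  obtain ⟨τ, hτ, hτE⟩ := exists_ext (fullyNormalized_props hS hF hEfn).2
    ((mem_autGroup_iff F hEsc.1).1 hw) (range_subtype_comp w) hEsc.1 hext
  have hτP : ∀ x : P, τ (Subgroup.inclusion hP.1 x) ∈ P := fun x =>
    hP.2 P le_rfl _ (restrict_mem F hτ hP.1) x
  let γf : P →* P := (τ.comp (Subgroup.inclusion hP.1)).codRestrict P hτP
  have hγinj : Function.Injective γf := fun x y hxy => Subgroup.inclusion_injective hP.1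
    (F.injective_of_mem hτ (congrArg Subtype.val hxy))
  let γ : MulAut P := MulEquiv.ofBijective γf ⟨hγinj, Finite.surjective_of_injective hγinj⟩
  have hγE : ∀ x : P, (x : Ω) ∈ E → γ x = x⁻¹ := by
    intro x hx
    apply Subtype.ext
    show τ (Subgroup.inclusion hP.1 x) = (x : Ω)⁻¹
    have h := hτE ⟨x, hx⟩
    rw [show Subgroup.inclusion hP.1 x = Subgroup.inclusion hEsc.1 ⟨x, hx⟩ from Subtype.ext rfl, h]
    exact congrArg Subtype.val (hwinv ⟨x, hx⟩)
  -- its `2`-part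
  have : Finite (MulAut P) := finite_mulAut P
  obtain ⟨k, m, hm2, hkm⟩ := Nat.exists_eq_pow_mul_and_not_dvd (orderOf_pos γ).ne' 2 (by norm_num)
  obtain ⟨l, rfl⟩ : Odd m := Nat.odd_iff.2 (by omega)
  let δ : MulAut P := γ ^ (2 * l + 1)
  have hδ2 : δ ^ 2 ^ k = 1 := by
    rw [← pow_mul, mul_comm, ← hkm, pow_orderOf_eq_one]
  have hδE : ∀ x : P, (x : Ω) ∈ E → δ x = x⁻¹ := by
    have h2 : ∀ (n : ℕ) (x : P), (x : Ω) ∈ E → (γ ^ (2 * n)) x = x := by
      intro n
      induction n with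
      | zero => simp
      | succ n ih =>
        intro x hx
        rw [show 2 * (n + 1) = 2 * n + 1 + 1 by ring, pow_succ, pow_succ, MulAut.mul_apply,
          MulAut.mul_apply, hγE x hx, map_inv, hγE x hx, inv_inv, ih x hx]
    intro x hx
    show (γ ^ (2 * l + 1)) x = _
    rw [pow_succ, MulAut.mul_apply, hγE x hx, map_inv, h2 l x hx]
  -- the coset of `g` modulo the centraliser of `E` is invariant
  let EP : Subgroup P := E.subgroupOf P
  let C : Subgroup P := Subgroup.centralizer (EP : Set P)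
  have hact : ∀ x : P, ∀ y ∈ EP, δ x * y * (δ x)⁻¹ = x * y * x⁻¹ := by
    intro x y hy
    have hxy : ((x * y⁻¹ * x⁻¹ : P) : Ω) ∈ E :=
      conj_mem_of_normalizer (le_normalizer_of_stronglyClosed hEsc (hP.1 x.2)) (E.inv_mem hy)
    calc δ x * y * (δ x)⁻¹ = δ (x * y⁻¹ * x⁻¹) := by
          rw [map_mul, map_mul, map_inv, map_inv, hδE y hy, inv_inv]
      _ = (x * y⁻¹ * x⁻¹)⁻¹ := hδE _ hxy
      _ = _ := by group
  have hCinv : ∀ x ∈ C, δ x ∈ C := by
    intro x hx y hy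
    have h1 := hact x y hy
    rw [show x * y * x⁻¹ = y by rw [← hx y hy, mul_inv_cancel_right]] at h1
    calc y * δ x = δ x * y * (δ x)⁻¹ * δ x := by rw [h1]
      _ = δ x * y := by group
  let gP : P := ⟨g, hg⟩
  have hgC : gP⁻¹ * δ gP ∈ C := by
    intro y hy
    have hy' : gP * y * gP⁻¹ = δ gP * y * (δ gP)⁻¹ := (hact gP y hy).symm
    calc y * (gP⁻¹ * δ gP) = gP⁻¹ * (gP * y * gP⁻¹) * δ gP := by group
      _ = gP⁻¹ * (δ gP * y * (δ gP)⁻¹) * δ gP := by rw [hy']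
      _ = _ := by group
  haveI := Fact.mk Nat.prime_two
  obtain ⟨h, hhC, hhδ⟩ := exists_fixed_in_coset hPp (q := 2) (fun h => hp2 h.symm) hδ2 C hCinv hgC
  have hh1 : h ≠ 1 := by
    rintro rfl
    rw [mul_one] at hhC
    refine hge ?_
    have := hhC ⟨e, hEP he⟩ he
    calc g * e * g⁻¹ = g * (e * g⁻¹) := by group
      _ = g * (g⁻¹ * e) := by rw [show e * g⁻¹ = g⁻¹ * e from congrArg Subtype.val this]
      _ = e := by group
  obtain ⟨j, hj⟩ := IsPGroup.iff_orderOf.1 hPp h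
  obtain ⟨j', rfl⟩ : ∃ j', j = j' + 1 := Nat.exists_eq_succ_of_ne_zero (by
    rintro rfl
    exact hh1 (orderOf_eq_one_iff.1 (hj.trans (pow_zero p))))
  let y : P := h ^ p ^ j'
  have hy1 : y ≠ 1 := by
    intro hy
    have h1 := orderOf_dvd_of_pow_eq_one hy
    rw [hj, Nat.pow_dvd_pow_iff_le_right hp.out.one_lt] at h1
    omega
  have hyp : y ^ p = 1 := by rw [← pow_mul, ← pow_succ, ← hj, pow_orderOf_eq_one]
  have hyE : (y : Ω) ∈ E := (hmemE _).2 ⟨y.2, congrArg Subtype.val hyp⟩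
  have hyinv : y = y⁻¹ := by
    rw [← hδE y hyE]
    exact (by rw [map_pow, hhδ] : δ y = y).symm
  apply hy1
  have h2 : y ^ 2 = 1 := by rw [pow_two]; nth_rw 2 [hyinv]; exact mul_inv_cancel y
  rw [← orderOf_eq_one_iff]
  exact Nat.eq_one_of_dvd_coprimes ((Nat.coprime_primes Nat.prime_two hp.out).2 (Ne.symm hp2))
    (orderOf_dvd_of_pow_eq_one h2) (orderOf_dvd_of_pow_eq_one hyp)

end Main

end CfsgLib.MetacyclicFusion
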