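import Cfsg.Agent.Eq.Def_OddOrderLocal
import Mathlib.GroupTheory.SpecificGroups.Cyclic

/-!
Metacyclic groups: subgroups, and generators.
-/

set_option autoImplicit false

open scoped commutatorElement

namespace CfsgLib.MetacyclicFusion

universe u

section Basic

variable {X : Type u} [Group X]

theorem isMetacyclic_of_injective {Y : Type*} [Group Y] (f : X →* Y) (hf : Function.Injective f)
    (h : Cfsg.IsMetacyclic Y) : Cfsg.IsMetacyclic X := by
  obtain ⟨N, hN, hNc, hQc⟩ := h
  haveI := hN; haveI := hNc; haveI := hQc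
  refine ⟨N.comap f, inferInstance, ?_, ?_⟩
  · exact isCyclic_of_injective ((f.comp (N.comap f).subtype).codRestrict N fun x => x.2)
      fun a b h => Subtype.ext (hf (congrArg (Subtype.val : N → Y) h))
  · refine isCyclic_of_injective (QuotientGroup.map (N.comap f) N f le_rfl) ?_
    rw [injective_iff_map_eq_one]
    intro x hx
    obtain ⟨y, rfl⟩ := QuotientGroup.mk'_surjective _ x
    exact (QuotientGroup.eq_one_iff y).2 ((QuotientGroup.eq_one_iff (f y)).1 hx)

theorem isMetacyclic_of_le {H K : Subgroup X} (hHK : H ≤ K) (h : Cfsg.IsMetacyclic K) :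
    Cfsg.IsMetacyclic H :=
  isMetacyclic_of_injective _ (Subgroup.inclusion_injective hHK) h

/-- Generators of a metacyclic group, with the position of commutators. -/
theorem exists_data (h : Cfsg.IsMetacyclic X) :
    ∃ (N : Subgroup X) (g : X), N.Normal ∧ IsCyclic N ∧
      (∀ x, ∃ i : ℤ, x * (g ^ i)⁻¹ ∈ N) ∧ ∀ x y : X, ⁅x, y⁆ ∈ N := by
  obtain ⟨N, hN, hNc, hQc⟩ := h
  haveI := hN; haveI := hQc
  obtain ⟨q, hq⟩ := IsCyclic.exists_generator (α := X ⧸ N)
  obtain ⟨g, rfl⟩ := QuotientGroup.mk'_surjective N q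
  refine ⟨N, g, hN, hNc, fun x => ?_, fun x y => ?_⟩
  · obtain ⟨i, hi⟩ := Subgroup.mem_zpowers_iff.1 (hq (QuotientGroup.mk' N x))
    refine ⟨i, (QuotientGroup.eq_one_iff _).1 ?_⟩
    show QuotientGroup.mk' N (x * (g ^ i)⁻¹) = 1
    rw [map_mul, map_inv, map_zpow, hi, mul_inv_cancel]
  · refine (QuotientGroup.eq_one_iff _).1 ?_
    show QuotientGroup.mk' N ⁅x, y⁆ = 1
    letI : CommGroup (X ⧸ N) := IsCyclic.commGroup
    rw [map_commutatorElement, commutatorElement_eq_one_iff_mul_comm, mul_comm]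

end Basic

end CfsgLib.MetacyclicFusion
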