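import Cfsg.Agent.Eq.Def_CaseTheorems
import Cfsg.Agent.MetacyclicFusion.Basic
import Cfsg.Agent.FusionTwo.Common

/-!
Metacyclic `2`-groups containing `D₈` or `Q₈` are dihedral, quasidihedral or quaternion; an abelian
`2`-subgroup of exponent at least four admits no outer involution moving a basis element.
-/

set_option autoImplicit false

open scoped commutatorElement

namespace CfsgLib.MetacyclicFusion

universe u

variable {P : Type u} [Group P]

/-- A group of order `2 ^ (n + 1)` with a cyclic subgroup of index two inverted (or semi-inverted)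
by an element outside it. -/
theorem exceptional_of_cyclic [Finite P] {a h : P} {n : ℕ} (hn : 2 ≤ n) (ha : orderOf a = 2 ^ n)
    (hha : h ∉ Subgroup.zpowers a)
    (hgen : ∀ x : P, x ∈ Subgroup.zpowers a ∨ x * h⁻¹ ∈ Subgroup.zpowers a)
    (hh : h ^ 2 = 1 ∨ h ^ 2 = a ^ (2 ^ (n - 1)))
    (hconj : h * a * h⁻¹ = a⁻¹ ∨ (3 ≤ n ∧ h * a * h⁻¹ = a ^ (2 ^ (n - 1) - 1))) :
    (∃ m : ℕ, Nonempty (P ≃* DihedralGroup m)) ∨ (∃ m : ℕ, Nonempty (P ≃* QuaternionGroup m)) ∨
      Cfsg.IsQuasiDihedral P := by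
  have hcl : Subgroup.closure {a, h} = ⊤ := by
    rw [eq_top_iff]
    intro x _
    have hA : Subgroup.zpowers a ≤ Subgroup.closure {a, h} :=
      Subgroup.zpowers_le.2 (Subgroup.subset_closure (by simp))
    rcases hgen x with h1 | h1
    · exact hA h1
    · rw [show x = x * h⁻¹ * h by group]
      exact mul_mem (hA h1) (Subgroup.subset_closure (by simp))
  have hsplit : 2 ^ n = 2 * 2 ^ (n - 1) := by rw [← pow_succ', Nat.sub_add_cancel (by omega)]
  rcases hconj with hc | ⟨h3, hc⟩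
  · rcases hh with h2 | h2
    · left
      have : NeZero (2 ^ n) := ⟨pow_ne_zero _ two_ne_zero⟩
      obtain ⟨f, hf, hfr⟩ := CfsgLib.FusionTwo.exists_dihedral_hom (m := 2 ^ n) ha
        (by rw [← pow_two, h2]) hc hha
      exact ⟨2 ^ n, ⟨(MulEquiv.ofBijective f ⟨hf, MonoidHom.range_eq_top.1 (hfr.trans hcl)⟩).symm⟩⟩
    · right; left
      have : NeZero (2 ^ (n - 1)) := ⟨pow_ne_zero _ two_ne_zero⟩
      obtain ⟨f, hf, hfr⟩ := CfsgLib.FusionTwo.exists_quaternion_hom (m := 2 ^ (n - 1))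
        (ha.trans hsplit) h2 hc hha
      exact ⟨2 ^ (n - 1),
        ⟨(MulEquiv.ofBijective f ⟨hf, MonoidHom.range_eq_top.1 (hfr.trans hcl)⟩).symm⟩⟩
  · right; right
    have hcard : Nat.card P = 2 ^ (n + 1) := by
      have hidx : (Subgroup.zpowers a).index = 2 := by
        rw [Subgroup.index_eq_two_iff]
        refine ⟨h⁻¹, fun x => ?_⟩
        by_cases hx : x ∈ Subgroup.zpowers a
        · refine Or.inr ⟨hx, fun hxh => hha ?_⟩
          have := mul_mem (inv_mem hx) hxh
          rw [inv_mul_cancel_left] at this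
          exact inv_mem_iff.1 this
        · exact Or.inl ⟨(hgen x).resolve_left hx, hx⟩
      rw [← Subgroup.card_mul_index (Subgroup.zpowers a), hidx, Nat.card_zpowers, ha, pow_succ]
    have hh0 : h ≠ 1 := fun e => hha (e ▸ one_mem _)
    refine ⟨n, h3, hcard, ?_⟩
    rcases hh with h2 | h2
    · exact ⟨a, h, ha, orderOf_eq_prime h2 hh0, hc⟩
    · refine ⟨a, a * h, ha, orderOf_eq_prime ?_ ?_, ?_⟩
      · calc (a * h) ^ 2 = a * (h * a * h⁻¹) * h ^ 2 := by rw [pow_two, pow_two]; group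
          _ = a ^ (2 ^ n) := by
            rw [hc, h2, ← pow_succ', ← pow_add]
            congr 1
            have := Nat.one_le_two_pow (n := n - 1)
            omega
          _ = 1 := by rw [← ha, pow_orderOf_eq_one]
      · intro e
        exact hha (by rw [eq_inv_of_mul_eq_one_right e]; exact inv_mem (Subgroup.mem_zpowers a))
      · calc a * h * a * (a * h)⁻¹ = a * (h * a * h⁻¹) * a⁻¹ := by group
          _ = _ := by rw [hc, ← pow_succ', pow_succ, mul_inv_cancel_right]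

/-- The roots of unity `r ≡ 3 (mod 4)` of order two modulo `2 ^ n`. -/
theorem sq_one_cases {n : ℕ} (hn : 2 ≤ n) {r : ℤ} (hsq : (2 : ℤ) ^ n ∣ r * r - 1)
    (h4 : (4 : ℤ) ∣ r + 1) :
    (2 : ℤ) ^ n ∣ r + 1 ∨ (3 ≤ n ∧ (2 : ℤ) ^ n ∣ r + 1 - 2 ^ (n - 1)) := by
  obtain ⟨k, hk⟩ := h4
  have hodd : IsCoprime ((2 : ℤ) ^ (n - 1)) (2 * k - 1) :=
    IsCoprime.pow_left (Int.prime_two.coprime_iff_not_dvd.2 (by omega))
  have h1 : (2 : ℤ) * 2 ^ (n - 1) ∣ 2 * ((r + 1) * (2 * k - 1)) := by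
    rw [← pow_succ', Nat.sub_add_cancel (by omega)]
    refine hsq.trans (dvd_of_eq ?_)
    rw [show r = 4 * k - 1 by omega]
    ring
  have h2 : (2 : ℤ) ^ (n - 1) ∣ r + 1 :=
    hodd.dvd_of_dvd_mul_right ((mul_dvd_mul_iff_left (two_ne_zero)).1 h1)
  obtain ⟨j, hj⟩ := h2
  rcases Int.even_or_odd j with ⟨i, rfl⟩ | ⟨i, rfl⟩
  · exact Or.inl ⟨i, by rw [hj, ← Nat.sub_add_cancel (show 1 ≤ n by omega), pow_succ]
                        simp only [Nat.add_sub_cancel]; ring⟩
  · refine Or.inr ⟨?_, i, by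
      rw [hj, ← Nat.sub_add_cancel (show 1 ≤ n by omega), pow_succ]
      simp only [Nat.add_sub_cancel]; ring⟩
    by_contra h
    obtain rfl : n = 2 := by omega
    norm_num at hj
    omega

/-- A metacyclic `2`-group with elements `u` of order four and `v` inverting it, `v² ∈ ⟨u²⟩`, is
dihedral, quaternion or quasidihedral. -/
theorem exceptional_of_pair [Finite P] (hP : IsPGroup 2 P) (hm : Cfsg.IsMetacyclic P) {u v : P}
    (hu : orderOf u = 4) (hv : v * u * v⁻¹ = u⁻¹) (hv2 : v ^ 2 = 1 ∨ v ^ 2 = u ^ 2) :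
    (∃ m : ℕ, Nonempty (P ≃* DihedralGroup m)) ∨ (∃ m : ℕ, Nonempty (P ≃* QuaternionGroup m)) ∨
      Cfsg.IsQuasiDihedral P := by
  have : Fact (Nat.Prime 2) := ⟨Nat.prime_two⟩
  obtain ⟨N, g, hN, hNc, hNg, hNcomm⟩ := exists_data hm
  have hu4 : u ^ 4 = 1 := by rw [← hu, pow_orderOf_eq_one]
  have hu2 : u ^ 2 ≠ 1 := fun h => by
    have := Nat.le_of_dvd two_pos (orderOf_dvd_of_pow_eq_one h)
    omega
  have huu : u ^ 2 * u ^ 2 = 1 := by rw [← pow_add]; exact hu4
  have huinv : u⁻¹ = u * u * u := inv_eq_of_mul_eq_one_right (by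
    rw [← hu4]; simp only [pow_succ, pow_zero, one_mul, mul_assoc])
  obtain ⟨a₀, ha₀⟩ := hNc.exists_generator
  let a : P := a₀
  have haN : ∀ x, x ∈ N → x ∈ Subgroup.zpowers a := fun x hx => by
    obtain ⟨i, hi⟩ := Subgroup.mem_zpowers_iff.1 (ha₀ ⟨x, hx⟩)
    exact Subgroup.mem_zpowers_iff.2 ⟨i, congrArg Subtype.val hi⟩
  -- the involutions of `N` coincide
  have hinvN : ∀ x ∈ N, ∀ y ∈ N, x ^ 2 = 1 → x ≠ 1 → y ^ 2 = 1 → y ≠ 1 → x = y := by
    intro x hx y hy hx2 hx1 hy2 hy1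
    by_contra hne
    classical
    letI := Fintype.ofFinite N
    have hc := IsCyclic.card_pow_eq_one_le (α := N) two_pos
    letI := Fintype.ofFinite N
    have hs : ({1, ⟨x, hx⟩, ⟨y, hy⟩} : Finset N) ⊆ Finset.univ.filter fun z : N => z ^ 2 = 1 := by
      intro z hz
      simp only [Finset.mem_insert, Finset.mem_singleton] at hz
      rcases hz with rfl | rfl | rfl <;> simp [Subtype.ext_iff, hx2, hy2]
    have h3 : ({1, ⟨x, hx⟩, ⟨y, hy⟩} : Finset N).card = 3 := by
      rw [Finset.card_insert_of_notMem, Finset.card_insert_of_notMem, Finset.card_singleton] <;>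
        simp [Subtype.ext_iff, Ne.symm hx1, Ne.symm hy1, hne]
    have := (Finset.card_le_card hs).trans hc
    omega
  have hu2N : u ^ 2 ∈ N := by
    have h := hNcomm u v
    rwa [commutatorElement_def, show u * v * u⁻¹ * v⁻¹ = u * (v * u * v⁻¹)⁻¹ by group, hv, inv_inv,
      ← pow_two] at h
  -- choose `w ∈ N` of order four and `h` inverting it
  obtain ⟨w, h, hwN, hw, hhw, hh2⟩ : ∃ w h : P, w ∈ N ∧ orderOf w = 4 ∧ h * w * h⁻¹ = w⁻¹ ∧
      (h ^ 2 = 1 ∨ h ^ 2 = w ^ 2) := by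
    by_cases huN : u ∈ N
    · exact ⟨u, v, huN, hu, hv, hv2⟩
    have h4 : ∀ w : P, w ^ 2 = u ^ 2 → orderOf w = 4 := fun w hw =>
      orderOf_eq_prime_pow (p := 2) (n := 1) (by rw [pow_one, hw]; exact hu2) (by
        rw [show (2 : ℕ) ^ (1 + 1) = 2 + 2 by norm_num, pow_add, hw]; exact huu)
    by_cases hvN : v ∈ N
    · have hvne : v ^ 2 ≠ 1 := fun h1 => by
        have hv1 : v ≠ 1 := by
          rintro rfl
          apply hu2
          rw [pow_two]
          nth_rw 2 [show u = u⁻¹ by simpa using hv]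
          exact mul_inv_cancel u
        have := hinvN v hvN _ hu2N h1 hv1 (by rw [pow_two]; exact huu) hu2
        apply hu2
        rw [this, show u ^ 2 * u * (u ^ 2)⁻¹ = u by group] at hv
        rw [pow_two]
        nth_rw 2 [hv]
        exact mul_inv_cancel u
      have hvv := hv2.resolve_left hvne
      refine ⟨v, u, hvN, h4 v hvv, ?_, Or.inr hvv.symm⟩
      apply eq_inv_of_mul_eq_one_left
      calc u * v * u⁻¹ * v = u * v * u⁻¹ * v⁻¹ * v ^ 2 := by rw [pow_two]; group
        _ = u * (v * u * v⁻¹)⁻¹ * u ^ 2 := by rw [hvv]; group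
        _ = 1 := by rw [hv, inv_inv, ← pow_two, huu]
    have huv2 : (u * v) ^ 2 = v ^ 2 := by
      calc (u * v) ^ 2 = u * (v * u * v⁻¹) * v ^ 2 := by rw [pow_two, pow_two]; group
        _ = v ^ 2 := by rw [hv, mul_inv_cancel, one_mul]
    have huvN : u * v ∈ N := by
      haveI := hN
      let π := QuotientGroup.mk' N
      have hπ : ∀ z, π z = 1 ↔ z ∈ N := fun z => QuotientGroup.eq_one_iff z
      have hcy : ∀ z, π z ∈ Subgroup.zpowers (π g) := fun z => by
        obtain ⟨i, hi⟩ := hNg z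
        refine Subgroup.mem_zpowers_iff.2 ⟨i, ?_⟩
        have h1 := (hπ _).2 hi
        rw [map_mul, map_inv, map_zpow, mul_inv_eq_one] at h1
        exact h1.symm
      have : IsCyclic (P ⧸ N) := ⟨π g, fun z => by
        obtain ⟨z, rfl⟩ := QuotientGroup.mk'_surjective N z
        exact hcy z⟩
      have hv2N : v ^ 2 ∈ N := by rcases hv2 with e | e <;> rw [e]; exacts [one_mem _, hu2N]
      classical
      letI := Fintype.ofFinite (P ⧸ N)
      have hc := IsCyclic.card_pow_eq_one_le (α := P ⧸ N) two_pos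
      by_contra huv
      have hs : ({1, π u, π v} : Finset (P ⧸ N)) ⊆ Finset.univ.filter fun z => z ^ 2 = 1 := by
        intro z hz
        simp only [Finset.mem_insert, Finset.mem_singleton] at hz
        simp only [Finset.mem_filter, Finset.mem_univ, true_and]
        rcases hz with rfl | rfl | rfl
        exacts [one_pow 2, by rw [← map_pow]; exact (hπ _).2 hu2N,
          by rw [← map_pow]; exact (hπ _).2 hv2N]
      have h3 : ({1, π u, π v} : Finset (P ⧸ N)).card = 3 := by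
        rw [Finset.card_insert_of_notMem, Finset.card_insert_of_notMem, Finset.card_singleton]
        · rw [Finset.mem_singleton]
          intro e
          apply huv
          rw [← hπ, map_mul, ← e, ← map_mul, ← pow_two]
          exact (hπ _).2 hu2N
        · simp only [Finset.mem_insert, Finset.mem_singleton, not_or]
          exact ⟨fun e => huN ((hπ _).1 e.symm), fun e => hvN ((hπ _).1 e.symm)⟩
      have := (Finset.card_le_card hs).trans hc
      omega
    have hncomm : v * u * v⁻¹ ≠ u := fun e => hu2 (by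
      rw [hv] at e; rw [pow_two]; nth_rw 2 [← e]; exact mul_inv_cancel u)
    have hne : (u * v) ^ 2 ≠ 1 := fun h1 => by
      by_cases h0 : u * v = 1
      · exact hncomm (by rw [eq_inv_of_mul_eq_one_right h0]; group)
      · have h5 := hinvN _ huvN _ hu2N h1 h0 (by rw [pow_two]; exact huu) hu2
        rw [pow_two, mul_right_inj] at h5
        exact hncomm (by rw [h5]; group)
    rw [huv2] at hne
    have hvv := hv2.resolve_left hne
    refine ⟨u * v, u, huvN, h4 _ (huv2.trans hvv), ?_, Or.inr (huv2.trans hvv).symm⟩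
    apply eq_inv_of_mul_eq_one_left
    calc u * (u * v) * u⁻¹ * (u * v) = u ^ 2 * v ^ 2 := by rw [pow_two, pow_two]; group
      _ = 1 := by rw [hvv, huu]
  -- `N` has index two
  have hw2 : w ^ 2 ≠ 1 := fun h => by
    have := Nat.le_of_dvd two_pos (orderOf_dvd_of_pow_eq_one h)
    omega
  have hnotcomm : ¬ (h * w * h⁻¹ = w) := fun e => hw2 (by
    rw [hhw] at e; rw [pow_two]; nth_rw 2 [← e]; exact mul_inv_cancel w)
  have hNabel : ∀ x ∈ N, x * w * x⁻¹ = w := fun x hx => by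
    obtain ⟨i, rfl⟩ := Subgroup.mem_zpowers_iff.1 (haN x hx)
    obtain ⟨j, rfl⟩ := Subgroup.mem_zpowers_iff.1 (haN w hwN)
    group
  have hh2N : h ^ 2 ∈ N := by rcases hh2 with e | e <;> rw [e]; exacts [one_mem _, pow_mem hwN 2]
  obtain ⟨i, hi⟩ := hNg h
  have hiodd : Odd i := by
    rcases Int.even_or_odd i with ⟨k, rfl⟩ | hodd
    · exfalso
      -- an even power of `g` centralises `w`
      apply hnotcomm
      have hgw : ∀ x : P, x * w * x⁻¹ = w ∨ x * w * x⁻¹ = w⁻¹ := by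
        intro x
        have hx : x * w * x⁻¹ ∈ N := hN.conj_mem w hwN x
        have hxo : orderOf (x * w * x⁻¹) = 4 := by rw [CfsgLib.FusionTwo.orderOf_conj, hw]
        obtain ⟨m, hm'⟩ := mem_powers_iff_mem_zpowers.2 (show x * w * x⁻¹ ∈ Subgroup.zpowers w from by
          have hcard : ∀ y ∈ N, y ^ 4 = 1 → y ∈ Subgroup.zpowers w := by
            intro y hy hy4
            classical
            letI := Fintype.ofFinite N
            have hc := IsCyclic.card_pow_eq_one_le (α := N) (n := 4) (by norm_num)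
            let W : Subgroup N := Subgroup.zpowers ⟨w, hwN⟩
            have hWc : Nat.card W = 4 := by rw [Nat.card_zpowers, ← Subgroup.orderOf_coe]; exact hw
            by_contra hyn
            have hs : insert (⟨y, hy⟩ : N) (W : Set N).toFinset ⊆
                Finset.univ.filter fun z : N => z ^ 4 = 1 := by
              intro z hz
              simp only [Finset.mem_insert, Set.mem_toFinset] at hz
              simp only [Finset.mem_filter, Finset.mem_univ, true_and]
              rcases hz with rfl | hz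
              · exact Subtype.ext hy4
              · obtain ⟨t, rfl⟩ := Subgroup.mem_zpowers_iff.1 hz
                apply Subtype.ext
                show (w ^ t) ^ 4 = 1
                rw [← zpow_natCast, ← zpow_mul, mul_comm, zpow_mul, zpow_natCast,
                  show w ^ 4 = 1 by rw [← hw, pow_orderOf_eq_one], one_zpow]
            have hnm : (⟨y, hy⟩ : N) ∉ (W : Set N).toFinset := by
              rw [Set.mem_toFinset]
              intro hyW
              obtain ⟨t, ht⟩ := Subgroup.mem_zpowers_iff.1 hyW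
              exact hyn (Subgroup.mem_zpowers_iff.2 ⟨t, congrArg Subtype.val ht⟩)
            have h5 := (Finset.card_le_card hs).trans hc
            rw [Finset.card_insert_of_notMem hnm, Set.toFinset_card, ← Nat.card_eq_fintype_card] at h5
            change Nat.card W + 1 ≤ 4 at h5
            omega
          exact hcard _ hx (by rw [← hxo, pow_orderOf_eq_one]))
        simp only at hm'
        have hm4 : w ^ m = w ^ (m % 4) := by rw [← hw, ← pow_mod_orderOf]
        rw [hm4] at hm'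
        have hlt := Nat.mod_lt m (show 4 > 0 by norm_num)
        have h4' : w ^ 4 = 1 := by rw [← hw, pow_orderOf_eq_one]
        interval_cases hmm : m % 4
        · rw [← hm', pow_zero, orderOf_one] at hxo; omega
        · left; rw [← hm', pow_one]
        · exfalso
          have : (x * w * x⁻¹) ^ 2 = 1 := by rw [← hm', ← pow_mul]; exact h4'
          have := Nat.le_of_dvd two_pos (orderOf_dvd_of_pow_eq_one this)
          omega
        · right; rw [← hm']; exact eq_inv_of_mul_eq_one_left (by rw [← pow_succ, h4'])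
      have hsq : ∀ x : P, x * (x * w * x⁻¹) * x⁻¹ = w := by
        intro x
        rcases hgw x with e | e
        · rw [e, e]
        · rw [e, ← conj_inv, e, inv_inv]
      have hgk := hsq (g ^ k)
      rw [show h = h * (g ^ (k + k))⁻¹ * g ^ (k + k) by group, zpow_add,
        show h * (g ^ k * g ^ k)⁻¹ * (g ^ k * g ^ k) * w *
          (h * (g ^ k * g ^ k)⁻¹ * (g ^ k * g ^ k))⁻¹ = (h * (g ^ k * g ^ k)⁻¹) *
          (g ^ k * (g ^ k * w * (g ^ k)⁻¹) * (g ^ k)⁻¹) * (h * (g ^ k * g ^ k)⁻¹)⁻¹ by group, hgk]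
      rw [zpow_add] at hi
      exact hNabel _ hi
    · exact hodd
  have hgen : ∀ x : P, x ∈ N ∨ x * h⁻¹ ∈ N := by
    haveI := hN
    have hN1 : ∀ z ∈ N, QuotientGroup.mk' N z = 1 := fun z hz => (QuotientGroup.eq_one_iff z).2 hz
    have hmh : QuotientGroup.mk' N h = QuotientGroup.mk' N g ^ i := by
      have := hN1 _ hi
      rwa [map_mul, map_inv, map_zpow, mul_inv_eq_one] at this
    obtain ⟨k', hk'⟩ := hP g
    -- `g ^ 2 ∈ N`
    have hg2 : QuotientGroup.mk' N g ^ (2 : ℤ) = 1 := by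
      have h1 : QuotientGroup.mk' N g ^ (i * 2) = 1 := by
        rw [zpow_mul, ← hmh, zpow_ofNat, ← map_pow]; exact hN1 _ hh2N
      have h2 : QuotientGroup.mk' N g ^ ((2 ^ k' : ℕ) : ℤ) = 1 := by
        rw [zpow_natCast, ← map_pow, hk', map_one]
      obtain ⟨c, d, hcd⟩ : IsCoprime i ((2 ^ k' : ℕ) : ℤ) := by
        push_cast
        exact IsCoprime.pow_right (Int.prime_two.coprime_iff_not_dvd.2 (by
          rw [← even_iff_two_dvd, Int.not_even_iff_odd]; exact hiodd)).symm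
      calc QuotientGroup.mk' N g ^ (2 : ℤ)
          = (QuotientGroup.mk' N g ^ (i * 2)) ^ c * (QuotientGroup.mk' N g ^ ((2 ^ k' : ℕ) : ℤ)) ^ (d * 2) := by
            rw [← zpow_mul, ← zpow_mul, ← zpow_add]
            congr 1
            linear_combination (-(2 : ℤ)) * hcd
        _ = 1 := by rw [h1, h2, one_zpow, one_zpow, one_mul]
    intro x
    obtain ⟨j, hj⟩ := hNg x
    have hx : QuotientGroup.mk' N x = QuotientGroup.mk' N g ^ j := by
      have := hN1 _ hj
      rwa [map_mul, map_inv, map_zpow, mul_inv_eq_one] at this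
    rcases Int.even_or_odd j with ⟨c, rfl⟩ | ⟨c, rfl⟩
    · refine Or.inl ((QuotientGroup.eq_one_iff x).1 ?_)
      show QuotientGroup.mk' N x = 1
      rw [hx, ← two_mul, zpow_mul, hg2, one_zpow]
    · refine Or.inr ((QuotientGroup.eq_one_iff _).1 ?_)
      obtain ⟨d, rfl⟩ := hiodd
      show QuotientGroup.mk' N (x * h⁻¹) = 1
      rw [map_mul, map_inv, hx, hmh, zpow_add, zpow_add, zpow_mul, zpow_mul, hg2, one_zpow, one_zpow,
        one_mul, mul_inv_cancel]
  obtain ⟨n, hn⟩ := IsPGroup.iff_orderOf.1 hP a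
  obtain ⟨t, ht⟩ := Subgroup.mem_zpowers_iff.1 (haN w hwN)
  have hn2 : 2 ≤ n := by
    have h1 : orderOf w ∣ orderOf a := by
      rw [← ht]; exact orderOf_dvd_of_mem_zpowers ⟨t, rfl⟩
    rw [hw, hn, show (4 : ℕ) = 2 ^ 2 by norm_num, Nat.pow_dvd_pow_iff_le_right (by norm_num)] at h1
    exact h1
  have hzA : Subgroup.zpowers a ≤ N := Subgroup.zpowers_le.2 a₀.2
  have hhA : h ∉ Subgroup.zpowers a := fun e => hnotcomm (hNabel h (hzA e))
  refine exceptional_of_cyclic hn2 hn hhA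
    (fun x => (hgen x).imp (haN x) (haN _)) ?_ ?_
  · refine hh2.imp id fun e => e.trans ?_
    refine hinvN _ (pow_mem hwN 2) _ (pow_mem a₀.2 _) ?_ hw2 ?_ ?_
    · rw [← pow_mul, show 2 * 2 = orderOf w by rw [hw]]; exact pow_orderOf_eq_one w
    · rw [← pow_mul, ← pow_succ, Nat.sub_add_cancel (by omega), ← hn, pow_orderOf_eq_one]
    · intro e'
      have := orderOf_dvd_of_pow_eq_one e'
      rw [hn, Nat.pow_dvd_pow_iff_le_right (by norm_num)] at this
      omega
  · obtain ⟨r, hr⟩ := Subgroup.mem_zpowers_iff.1 (haN _ (hN.conj_mem a a₀.2 h))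
    have hsq : (2 : ℤ) ^ n ∣ r * r - 1 := by
      have hhh : h * (h * a * h⁻¹) * h⁻¹ = a := by
        obtain ⟨s, hs⟩ := Subgroup.mem_zpowers_iff.1 (haN _ hh2N)
        rw [show h * (h * a * h⁻¹) * h⁻¹ = h ^ 2 * a * (h ^ 2)⁻¹ by rw [pow_two]; group, ← hs]
        group
      rw [← hr, ← conj_zpow, ← hr, ← zpow_mul] at hhh
      have := orderOf_dvd_sub_iff_zpow_eq_zpow.2 (hhh.trans (zpow_one a).symm)
      rw [hn] at this
      exact_mod_cast this
    have h4 : (4 : ℤ) ∣ r + 1 := by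
      have h1 : h * w * h⁻¹ = w ^ r := by
        rw [← ht, ← conj_zpow, ← hr, ← zpow_mul, ← zpow_mul, mul_comm]
      rw [hhw, ← zpow_neg_one] at h1
      have := orderOf_dvd_sub_iff_zpow_eq_zpow.2 h1.symm
      rw [hw] at this
      simpa using this
    rcases sq_one_cases hn2 hsq h4 with hd | ⟨h3, hd⟩
    · left
      rw [← hr, ← zpow_neg_one, ← orderOf_dvd_sub_iff_zpow_eq_zpow, hn]
      push_cast
      simpa using hd
    · right
      refine ⟨h3, ?_⟩
      rw [← hr, ← zpow_natCast, ← orderOf_dvd_sub_iff_zpow_eq_zpow, hn,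
        Nat.cast_sub Nat.one_le_two_pow]
      push_cast
      rw [show r - (2 ^ (n - 1) - 1) = r + 1 - 2 ^ (n - 1) by ring]
      exact hd

/-- An abelian subgroup `Q` of exponent dividing `2 ^ n`, `n ≥ 2`, in a metacyclic group, has no
element `g` outside it with `g² ∈ Q` normalizing it and displacing some element by one of order
`2 ^ n` outside the squares. -/
theorem no_swap (hm : Cfsg.IsMetacyclic P) {Q : Subgroup P} {n : ℕ} (hn : 2 ≤ n)
    (hab : ∀ x ∈ Q, ∀ y ∈ Q, x * y = y * x) (hexp : ∀ x ∈ Q, x ^ 2 ^ n = 1)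
    {g x : P} (hgQ : ∀ y ∈ Q, g * y * g⁻¹ ∈ Q) (hg2 : g ^ 2 ∈ Q)
    (hx : x ∈ Q) (hd : (x⁻¹ * (g * x * g⁻¹)) ^ 2 ^ (n - 1) ≠ 1) : False := by
  obtain ⟨N, a, hN, hNc, hNa, hNcomm⟩ := exists_data hm
  haveI := hN
  set d := x⁻¹ * (g * x * g⁻¹) with hd_def
  have hdQ : d ∈ Q := mul_mem (inv_mem hx) (hgQ x hx)
  have hdN : d ∈ N := by
    have := hNcomm x⁻¹ g
    rwa [commutatorElement_def, inv_inv, show x⁻¹ * g * x * g⁻¹ = d by rw [hd_def]; group] at this
  have hgg : g * (g * x * g⁻¹) * g⁻¹ = x := by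
    rw [show g * (g * x * g⁻¹) * g⁻¹ = g ^ 2 * x * (g ^ 2)⁻¹ by rw [pow_two]; group,
      hab _ hg2 _ hx, mul_inv_cancel_right]
  have hgd : g * d * g⁻¹ = d⁻¹ := by
    rw [show g * d * g⁻¹ = (g * x * g⁻¹)⁻¹ * (g * (g * x * g⁻¹) * g⁻¹) by rw [hd_def]; group,
      hgg, hd_def]
    group
  have hord : orderOf d = 2 ^ n := by
    have : Fact (Nat.Prime 2) := ⟨Nat.prime_two⟩
    have h := orderOf_eq_prime_pow (x := d) (p := 2) (n := n - 1) hd
      (by rw [Nat.sub_add_cancel (by omega)]; exact hexp d hdQ)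
    rwa [Nat.sub_add_cancel (by omega)] at h
  have hd2 : d ^ 2 ≠ 1 := fun e => hd (by
    rw [← Nat.sub_add_cancel (show 1 ≤ n - 1 by omega), pow_succ', pow_mul, e, one_pow])
  -- `Q ∩ N = ⟨d⟩`
  have hQN : ∀ y ∈ Q, y ∈ N → y ∈ Subgroup.zpowers d := by
    intro y hy hyN
    classical
    obtain ⟨e, he⟩ := hNc.exists_generator
    obtain ⟨i, hi⟩ := Subgroup.mem_zpowers_iff.1 (he ⟨d, hdN⟩)
    obtain ⟨j, hj⟩ := Subgroup.mem_zpowers_iff.1 (he ⟨y, hyN⟩)
    have hi' : (e : P) ^ i = d := congrArg Subtype.val hi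
    have hj' : (e : P) ^ j = y := congrArg Subtype.val hj
    let D : Subgroup P := Subgroup.zpowers ((e : P) ^ (Int.gcd i j : ℤ))
    have hdD : d ∈ D := by
      obtain ⟨c, hc⟩ := Int.gcd_dvd_left i j
      rw [← hi', hc, zpow_mul]; exact zpow_mem (Subgroup.mem_zpowers _) c
    have hyD : y ∈ D := by
      obtain ⟨c, hc⟩ := Int.gcd_dvd_right i j
      rw [← hj', hc, zpow_mul]; exact zpow_mem (Subgroup.mem_zpowers _) c
    have hgen : (e : P) ^ (Int.gcd i j : ℤ) ∈ Q := by
      rw [Int.gcd_eq_gcd_ab, zpow_add, zpow_mul, zpow_mul, hi', hj']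
      exact mul_mem (zpow_mem hdQ _) (zpow_mem hy _)
    have hle : Subgroup.zpowers d ≤ D := Subgroup.zpowers_le.2 hdD
    have : Finite D := Nat.finite_of_card_ne_zero (by
      rw [Nat.card_zpowers]
      exact ((isOfFinOrder_iff_pow_eq_one.2 ⟨_, Nat.two_pow_pos n, hexp _ hgen⟩).orderOf_pos).ne')
    have hDeq : Subgroup.zpowers d = D := Subgroup.eq_of_le_of_card_ge hle (by
      rw [Nat.card_zpowers, Nat.card_zpowers, hord]
      exact Nat.le_of_dvd (Nat.two_pow_pos n) (orderOf_dvd_of_pow_eq_one (hexp _ hgen)))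
    rw [hDeq]
    exact hyD
  -- elements of `Q N` invert-free
  have hQNfix : ∀ y ∈ Q, ∀ m ∈ N, g = y * m → False := by
    intro y hy m hm he
    apply hd2
    obtain ⟨e, hE⟩ := hNc.exists_generator
    have hmd : m * d * m⁻¹ = d := by
      obtain ⟨i, hi⟩ := Subgroup.mem_zpowers_iff.1 (hE ⟨d, hdN⟩)
      obtain ⟨j, hj⟩ := Subgroup.mem_zpowers_iff.1 (hE ⟨m, hm⟩)
      rw [show d = (e : P) ^ i from (congrArg Subtype.val hi).symm,
        show m = (e : P) ^ j from (congrArg Subtype.val hj).symm]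
      group
    have h1 : g * d * g⁻¹ = d := by
      rw [he, show y * m * d * (y * m)⁻¹ = y * (m * d * m⁻¹) * y⁻¹ by group, hmd, hab _ hy _ hdQ,
        mul_inv_cancel_right]
    rw [hgd] at h1
    rw [pow_two]; nth_rw 2 [← h1]; exact mul_inv_cancel d
  let π := QuotientGroup.mk' N
  have hπ : ∀ z, π z = 1 ↔ z ∈ N := fun z => QuotientGroup.eq_one_iff z
  obtain ⟨i, hi⟩ := hNa x
  obtain ⟨j, hj⟩ := hNa g
  have hπx : π x = π a ^ i := by
    have := (hπ _).2 hi; rwa [map_mul, map_inv, map_zpow, mul_inv_eq_one] at this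
  have hπg : π g = π a ^ j := by
    have := (hπ _).2 hj; rwa [map_mul, map_inv, map_zpow, mul_inv_eq_one] at this
  -- subgroups of a cyclic `2`-group are linearly ordered
  have hxg : ∃ t : ℤ, π x = π g ^ t ∨ π g = π x ^ t := by
    have h2x : π x ^ ((2 ^ n : ℕ) : ℤ) = 1 := by rw [zpow_natCast, ← map_pow, hexp x hx, map_one]
    have h2g : π g ^ ((2 ^ (n + 1) : ℕ) : ℤ) = 1 := by
      rw [zpow_natCast, ← map_pow, pow_succ', pow_mul, hexp _ hg2, map_one]
    let gd : P ⧸ N := π a ^ (Int.gcd i j : ℤ)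
    obtain ⟨ci, hci⟩ := Int.gcd_dvd_left i j
    obtain ⟨cj, hcj⟩ := Int.gcd_dvd_right i j
    have hxc : π x = gd ^ ci := by rw [hπx, ← zpow_mul, ← hci]
    have hgc : π g = gd ^ cj := by rw [hπg, ← zpow_mul, ← hcj]
    have hbez : gd = π x ^ Int.gcdA i j * π g ^ Int.gcdB i j := by
      rw [hπx, hπg, ← zpow_mul, ← zpow_mul, ← zpow_add, ← Int.gcd_eq_gcd_ab]
    have hgd2 : gd ^ ((2 ^ (n + 1) : ℕ) : ℤ) = 1 := by
      have hc : Commute (π x ^ Int.gcdA i j) (π g ^ Int.gcdB i j) := by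
        rw [hπx, hπg, ← zpow_mul, ← zpow_mul]; exact (Commute.refl _).zpow_zpow _ _
      rw [hbez, hc.mul_zpow, ← zpow_mul, mul_comm (Int.gcdA i j), zpow_mul, ← zpow_mul (π g),
        mul_comm (Int.gcdB i j), zpow_mul (π g), h2g,
        show ((2 ^ (n + 1) : ℕ) : ℤ) = ((2 ^ n : ℕ) : ℤ) * 2 by push_cast; ring, zpow_mul, h2x,
        one_zpow, one_zpow, one_zpow, one_mul]
    -- one of the cofactors is odd, hence invertible on `gd`
    have key : ∀ c : ℤ, ¬ (2 : ℤ) ∣ c → ∃ t : ℤ, gd = (gd ^ c) ^ t := by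
      intro c hc
      obtain ⟨u, v, huv⟩ : IsCoprime c ((2 ^ (n + 1) : ℕ) : ℤ) := by
        push_cast
        exact IsCoprime.pow_right (Int.prime_two.coprime_iff_not_dvd.2 hc).symm
      refine ⟨u, ?_⟩
      rw [← zpow_mul]
      nth_rw 1 [← zpow_one gd]
      rw [← huv, zpow_add, mul_comm u c, mul_comm v, zpow_mul gd ((2 ^ (n + 1) : ℕ) : ℤ), hgd2,
        one_zpow, mul_one]
    by_cases hc : (2 : ℤ) ∣ ci
    · by_cases hc' : (2 : ℤ) ∣ cj
      · obtain ⟨u, hu⟩ := hc
        obtain ⟨v, hv⟩ := hc'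
        rcases eq_or_ne (Int.gcd i j) 0 with h0 | h0
        · exact ⟨0, Or.inl (by rw [hxc, zpow_zero]; show (π a ^ ((Int.gcd i j : ℕ) : ℤ)) ^ ci = 1
                               rw [h0, Nat.cast_zero, zpow_zero, one_zpow])⟩
        exfalso
        have h2 : ((Int.gcd i j : ℤ) * 2) ∣ (Int.gcd i j : ℤ) :=
          Int.dvd_coe_gcd ⟨u, by rw [mul_assoc, ← hu, ← hci]⟩ ⟨v, by rw [mul_assoc, ← hv, ← hcj]⟩
        have := Int.le_of_dvd (by omega) h2
        omega
      · obtain ⟨t, ht⟩ := key cj hc'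
        rw [← hgc] at ht
        exact ⟨t * ci, Or.inl (by rw [zpow_mul, ← ht, hxc])⟩
    · obtain ⟨t, ht⟩ := key ci hc
      rw [← hxc] at ht
      exact ⟨t * cj, Or.inr (by rw [zpow_mul, ← ht, hgc])⟩
  obtain ⟨t, ht | ht⟩ := hxg
  · -- `x = g ^ t m`
    have hm' : (g ^ t)⁻¹ * x ∈ N := (hπ _).1 (by rw [map_mul, map_inv, map_zpow, ht, inv_mul_cancel])
    rcases Int.even_or_odd t with ⟨k, rfl⟩ | ⟨k, rfl⟩
    · have hgk : g ^ (k + k) = (g ^ 2) ^ k := by rw [← zpow_natCast, ← zpow_mul]; ring_nf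
      rw [hgk] at hm'
      obtain ⟨s, hs⟩ := Subgroup.mem_zpowers_iff.1
        (hQN _ (mul_mem (inv_mem (zpow_mem hg2 k)) hx) hm')
      have hxe : x = (g ^ 2) ^ k * d ^ s := by rw [hs]; group
      -- then `d` is a square
      have hgx : g * x * g⁻¹ = (g ^ 2) ^ k * (d⁻¹) ^ s := by
        rw [hxe, show g * ((g ^ 2) ^ k * d ^ s) * g⁻¹ =
          (g * (g ^ 2) ^ k * g⁻¹) * (g * d ^ s * g⁻¹) by group, ← conj_zpow, ← conj_zpow, hgd]
        congr 2
        group
      have hde : d = d ^ (-(2 * s)) := by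
        calc d = x⁻¹ * (g * x * g⁻¹) := hd_def
          _ = _ := by rw [hgx, hxe, inv_zpow, neg_mul_eq_mul_neg]; group
      apply hd
      rw [← orderOf_dvd_iff_pow_eq_one, hord]
      have h1 := orderOf_dvd_sub_iff_zpow_eq_zpow.2 ((zpow_one d).trans hde)
      rw [hord] at h1
      have h2 : (2 : ℤ) ∣ 1 - -(2 * s) :=
        ((by exact_mod_cast dvd_pow_self 2 (by omega : n ≠ 0)) : (2 : ℤ) ∣ ((2 ^ n : ℕ) : ℤ)).trans h1
      omega
    · -- `g ∈ Q N`
      refine hQNfix (((g ^ 2) ^ k)⁻¹ * x) (mul_mem (inv_mem (zpow_mem hg2 k)) hx)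
        (((g ^ (2 * k + 1))⁻¹ * x)⁻¹) (inv_mem hm') ?_
      rw [show (g ^ 2) ^ k = g ^ (2 * k) by rw [← zpow_natCast, ← zpow_mul]; norm_num]
      group
  · exact hQNfix (x ^ t) (zpow_mem hx t) ((x ^ t)⁻¹ * g)
      ((hπ _).1 (by rw [map_mul, map_inv, map_zpow, ht, inv_mul_cancel])) (by group)

end CfsgLib.MetacyclicFusion
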