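import Cfsg.Agent.MetacyclicFusion.Two

/-!
`Aut_F(S) = Inn(S)` when the automorphism group of `S` is a `p`-group.
-/

set_option autoImplicit false

namespace CfsgLib.MetacyclicFusion

open CfsgLib.Fus Cfsg.FusionSystem

variable {Ω : Type*} [Group Ω] {S : Subgroup Ω} [Finite S] {p : ℕ} [Fact p.Prime]

theorem autGroup_top_le (hS : IsPGroup p S) {F : Cfsg.FusionSystem S} (hF : F.IsSaturated p)
    (hA : IsPGroup p (MulAut S)) : F.autGroup S ≤ Cfsg.autInducedBy S S := by
  have hfn : F.IsFullyNormalized S := ⟨le_rfl, fun Q _ => by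
    have : Finite (normalizerIn S S) := finite_of_le (normalizerIn_le S)
    exact Subgroup.card_le_of_le fun g hg => ⟨hg.1, Subgroup.le_normalizer hg.1⟩⟩
  obtain ⟨-, hdvd⟩ := (isFullyAutomized_iff hS F).1 (fullyNormalized_props hS hF hfn).1
  rw [← Subgroup.relIndex_eq_one]
  have : Finite (MulAut S) := finite_mulAut S
  obtain ⟨n, hn⟩ := IsPGroup.iff_card.1 (hA.to_subgroup (F.autGroup S))
  have h2 : (Cfsg.autInducedBy S S).relIndex (F.autGroup S) ∣ p ^ n :=
    hn ▸ Subgroup.relIndex_dvd_card _ _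
  obtain ⟨k, -, hk⟩ := (Nat.dvd_prime_pow Fact.out).1 h2
  rw [hk] at hdvd ⊢
  rcases k with _ | k
  · rw [pow_zero]
  · exact absurd (dvd_pow_self p k.succ_ne_zero) hdvd

end CfsgLib.MetacyclicFusion
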