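import Cfsg.Agent.MetacyclicFusion.Exceptional
import Cfsg.Agent.QuatCore.Metacyclic
import Cfsg.Agent.FusAut.Basic
import Mathlib.Data.Fintype.Prod
import Mathlib.Data.ZMod.Basic
import Mathlib.Data.Fintype.Pi

/-!
For `p = 2`, a strongly closed metacyclic subgroup which is neither dihedral, quaternion nor
quasidihedral is normal in the system.
-/

set_option autoImplicit false

namespace CfsgLib.MetacyclicFusion

theorem four_group : ∀ A B C : Multiplicative (ZMod 2) × Multiplicative (ZMod 2),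
    A ≠ 1 → B ≠ 1 → A ≠ B → C = 1 ∨ C = A ∨ C = B ∨ C = A * B := by
  have key : ∀ A B C : ZMod 2 × ZMod 2,
      A = 0 ∨ B = 0 ∨ A = B ∨ C = 0 ∨ C = A ∨ C = B ∨ C = A + B := by decide
  exact fun A B C hA hB hAB =>
    (((key A B C).resolve_left hA).resolve_left hB).resolve_left hAB

open CfsgLib.Fus CfsgLib.FusAut CfsgLib.Fusion.Alperin Cfsg.FusionSystem

variable {Ω : Type*} [Group Ω] {S : Subgroup Ω} [Finite S]

/-- For `p = 2` a strongly closed metacyclic subgroup which is not exceptional is normal. -/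
theorem isNormal_of_metacyclic_two (hS : IsPGroup 2 S) {F : Cfsg.FusionSystem S}
    (hF : F.IsSaturated 2) {P : Subgroup Ω} (hP : F.StronglyClosed P) (hm : Cfsg.IsMetacyclic P)
    (hd : ¬ ∃ m : ℕ, Nonempty (↥P ≃* DihedralGroup m))
    (hq : ¬ ∃ m : ℕ, Nonempty (↥P ≃* QuaternionGroup m)) (hsd : ¬ Cfsg.IsQuasiDihedral ↥P) :
    F.IsNormal P := by
  have : Fact (Nat.Prime 2) := ⟨Nat.prime_two⟩
  have : Finite P := finite_of_le hP.1
  have hPp : IsPGroup 2 P := hS.to_le hP.1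
  have hpair : ∀ u v : P, orderOf u = 4 → v * u * v⁻¹ = u⁻¹ → (v ^ 2 = 1 ∨ v ^ 2 = u ^ 2) → False := by
    intro u v h1 h2 h3
    rcases exceptional_of_pair hPp hm h1 h2 h3 with h | h | h
    exacts [hd h, hq h, hsd h]
  refine isNormal_of_stronglyClosed hS hF hP fun R hR => ?_
  have hN := le_normalizer_of_stronglyClosed hP
  have hRS := hR.centric.1
  refine le_of_normalizing_mem hS hP.1 hRS (hRS.trans hN) fun g₀ hg₀ hg₀R => ?_
  by_contra hg₀n
  obtain ⟨g, hgP, hgR, hgn, hg2⟩ : ∃ g ∈ P, g ∈ Subgroup.normalizer (R : Set Ω) ∧ g ∉ R ∧ g ^ 2 ∈ R := by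
    obtain ⟨k, hk⟩ := hS ⟨g₀, hP.1 hg₀⟩
    have hk' : g₀ ^ 2 ^ k = 1 := congrArg Subtype.val hk
    classical
    have hex : ∃ j, g₀ ^ 2 ^ j ∈ R := ⟨k, hk' ▸ one_mem R⟩
    have h0 : Nat.find hex ≠ 0 := fun h => hg₀n (by simpa [h] using Nat.find_spec hex)
    obtain ⟨j, hj⟩ := Nat.exists_eq_succ_of_ne_zero h0
    refine ⟨g₀ ^ 2 ^ j, pow_mem hg₀ _, pow_mem hg₀R _, Nat.find_min hex (by omega), ?_⟩
    rw [← pow_mul, ← pow_succ]
    simpa [hj] using Nat.find_spec hex
  apply hgn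
  let Q : Subgroup Ω := R ⊓ P
  have hQR : Q ≤ R := inf_le_left
  have hgS : g ∈ S := hP.1 hgP
  have hinvQ : ∀ a ∈ F.autGroup R, ∀ x : R, (x : Ω) ∈ Q → ((a x : R) : Ω) ∈ Q := fun a ha x hx =>
    ⟨(a x).2, map_mem_of_stronglyClosed hP ((mem_autGroup_iff F hRS).1 ha) hx.2⟩
  have hgdispl : ∀ x ∈ R, x⁻¹ * (g * x * g⁻¹) ∈ Q := by
    intro x hx
    refine ⟨R.mul_mem (R.inv_mem hx) (conj_mem_of_normalizer hgR hx), ?_⟩
    rw [show x⁻¹ * (g * x * g⁻¹) = (x⁻¹ * g * x) * g⁻¹ by group]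
    exact P.mul_mem ((Subgroup.mem_normalizer_iff''.1 (hN (hRS hx)) g).1 hgP) (P.inv_mem hgP)
  refine mem_of_mem_pCore_of_radical hR.centric hR.radical ⟨hgS, hgR⟩ fun hm' => ?_
  have hRfin : Finite R := finite_of_le hRS
  have : Finite (MulAut R) := finite_mulAut R
  let K : Subgroup (F.autGroup R) :=
    { carrier := {a | ∀ x : R, ((x⁻¹ * (a : MulAut R) x : R) : Ω) ∈ Q}
      one_mem' := fun x => by simp
      mul_mem' := fun {a b} ha hb x => by
        show ((x⁻¹ * (a : MulAut R) ((b : MulAut R) x) : R) : Ω) ∈ Q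
        rw [show x⁻¹ * (a : MulAut R) ((b : MulAut R) x) = (x⁻¹ * (b : MulAut R) x) *
          (((b : MulAut R) x)⁻¹ * (a : MulAut R) ((b : MulAut R) x)) by group, Subgroup.coe_mul]
        exact Q.mul_mem (hb x) (ha _)
      inv_mem' := fun {a} ha x => by
        show ((x⁻¹ * (a : MulAut R)⁻¹ x : R) : Ω) ∈ Q
        rw [show x⁻¹ * (a : MulAut R)⁻¹ x =
          (((a : MulAut R)⁻¹ x)⁻¹ * (a : MulAut R) ((a : MulAut R)⁻¹ x))⁻¹ by
            rw [MulAut.inv_apply, MulEquiv.apply_symm_apply]; group, Subgroup.coe_inv]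
        exact Q.inv_mem (ha _) }
  have hKn : K.Normal := ⟨fun b hb a x => by
    show ((x⁻¹ * ((a * b * a⁻¹ : F.autGroup R) : MulAut R) x : R) : Ω) ∈ Q
    rw [show x⁻¹ * ((a * b * a⁻¹ : F.autGroup R) : MulAut R) x = (a : MulAut R)
        (((a : MulAut R)⁻¹ x)⁻¹ * (b : MulAut R) ((a : MulAut R)⁻¹ x)) by
      rw [map_mul, map_inv, MulAut.inv_apply, MulEquiv.apply_symm_apply]; rfl]
    exact hinvQ a a.2 _ (hb _)⟩
  have hgK : (⟨conjAut hgR, hm'⟩ : F.autGroup R) ∈ K := fun x => hgdispl x x.2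
  refine CfsgLib.CharP.le_pCore hKn (isPGroup_of_prime_order ?_) hgK
  rintro ⟨⟨a, haA⟩, haK⟩ q hqp hq2 hpow
  by_contra hne
  have := Fact.mk hqp
  have ha1 : a ^ q = 1 := congrArg (fun b : K => ((b : F.autGroup R) : MulAut R)) hpow
  have hane : a ≠ 1 := fun h => hne (Subtype.ext (Subtype.ext h))
  obtain ⟨β, hβ⟩ := exists_restrict hQR a (fun x hx => hinvQ a haA x hx)
  have hβ1 : β ≠ 1 := by
    intro hb
    apply hane
    refine MulEquiv.ext fun x => ?_
    obtain ⟨y, hy, hay⟩ := exists_fixed_in_coset (n := 1) (hS.to_le hRS) hq2 (by rw [pow_one]; exact ha1)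
      (Q.subgroupOf R) (fun z hz => hinvQ a haA z hz) (haK x)
    have hfix : a (x⁻¹ * y) = x⁻¹ * y := by
      apply Subtype.ext
      have := hβ 1 ⟨((x⁻¹ * y : R) : Ω), hy⟩
      rw [hb, one_pow, pow_one] at this
      exact this.symm
    rw [MulAut.one_apply, show x = y * (x⁻¹ * y)⁻¹ by group, map_mul, map_inv, hay, hfix]
  have hQfin : Finite Q := finite_of_le (hQR.trans hRS)
  have hβq : β ^ q = 1 := MulEquiv.ext fun y => Subtype.ext (by rw [hβ, ha1]; rfl)
  have hAutQ : ¬ IsPGroup 2 (MulAut Q) := by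
    intro h
    obtain ⟨k, hk⟩ := h β
    have hcop : Nat.Coprime q (2 ^ k) := ((Nat.coprime_primes hqp Nat.prime_two).2 hq2).pow_right k
    have := pow_gcd_eq_one.2 ⟨hβq, hk⟩
    rw [hcop, pow_one] at this
    exact hβ1 this
  rcases CfsgLib.QuatCore.metacyclic_aut (hS.to_le (hQR.trans hRS))
    (isMetacyclic_of_le inf_le_right hm) hAutQ with ⟨⟨e⟩⟩ | ⟨n, ⟨e⟩⟩
  · -- `P` would contain a quaternion group
    let ι : QuaternionGroup 2 →* P := (Subgroup.inclusion inf_le_right).comp e.symm.toMonoidHom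
    have hι : Function.Injective ι := (Subgroup.inclusion_injective (inf_le_right : R ⊓ P ≤ P)).comp e.symm.injective
    refine hpair (ι (QuaternionGroup.a 1)) (ι (QuaternionGroup.xa 0)) ?_ ?_ (Or.inr ?_)
    · rw [orderOf_injective ι hι, QuaternionGroup.orderOf_a_one]
    · rw [← map_inv, ← map_inv, ← map_mul, ← map_mul]
      exact congrArg ι (by decide)
    · rw [← map_pow, ← map_pow]
      exact congrArg ι (by decide)
  -- homocyclic case
  have hab : ∀ x ∈ Q, ∀ y ∈ Q, x * y = y * x := fun x hx y hy =>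
    congrArg Subtype.val (e.injective (by rw [map_mul, map_mul, mul_comm] :
      e (⟨x, hx⟩ * ⟨y, hy⟩) = e (⟨y, hy⟩ * ⟨x, hx⟩)))
  have hcomp : ∀ (c : Multiplicative (ZMod (2 ^ n))), c ^ 2 ^ n = 1 := fun c => by
    apply Multiplicative.toAdd.injective
    rw [toAdd_pow, toAdd_one, nsmul_eq_mul, ZMod.natCast_self, zero_mul]
  have hexp : ∀ x ∈ Q, x ^ 2 ^ n = 1 := fun x hx => by
    have h : (⟨x, hx⟩ : Q) ^ 2 ^ n = 1 := e.injective (by
      rw [map_pow, map_one]
      exact Prod.ext (hcomp _) (hcomp _))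
    exact congrArg Subtype.val h
  have hgQ : ∀ y ∈ Q, g * y * g⁻¹ ∈ Q := fun y hy =>
    ⟨conj_mem_of_normalizer hgR hy.1, P.mul_mem (P.mul_mem hgP hy.2) (P.inv_mem hgP)⟩
  have hg2Q : g ^ 2 ∈ Q := ⟨hg2, pow_mem hgP 2⟩
  by_cases htriv : ∀ x ∈ Q, ∃ w ∈ Q, x⁻¹ * (g * x * g⁻¹) = w ^ 2
  · -- `g` stabilises the series of powers of `Q`, so lies in `R`
    apply hgn
    let Lset : ℕ → Subgroup Ω := fun i =>
      { carrier := {y | ∃ z ∈ Q, z ^ 2 ^ (n - i) = y}
        one_mem' := ⟨1, one_mem _, one_pow _⟩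
        mul_mem' := by
          rintro _ _ ⟨z, hz, rfl⟩ ⟨w, hw, rfl⟩
          exact ⟨z * w, Q.mul_mem hz hw, Commute.mul_pow (hab z hz w hw) _⟩
        inv_mem' := by
          rintro _ ⟨z, hz, rfl⟩
          exact ⟨z⁻¹, Q.inv_mem hz, inv_pow _ _⟩ }
    let L : ℕ → Subgroup Ω := fun i => if i ≤ n then Lset i else R
    have hLQ : ∀ i, Lset i ≤ Q := by
      rintro i _ ⟨z, hz, rfl⟩
      exact pow_mem hz _
    refine mem_of_stabilizes_series hS hR.centric hR.radical ⟨hgS, hgR⟩ (n + 1) L ?_ ?_ ?_ ?_ ?_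
    · rw [eq_bot_iff]
      intro y hy
      simp only [L, Nat.zero_le, if_true] at hy
      obtain ⟨z, hz, rfl⟩ := hy
      rw [Nat.sub_zero, hexp z hz]
      exact one_mem _
    · simp [L]
    · intro i j hij
      simp only [L]
      split_ifs with h1 h2 h2
      · rintro _ ⟨z, hz, rfl⟩
        refine ⟨z ^ 2 ^ (j - i), pow_mem hz _, ?_⟩
        rw [← pow_mul, ← pow_add]
        congr 2
        omega
      · exact (hLQ i).trans hQR
      · omega
      · exact le_rfl
    · intro i b hb x hx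
      simp only [L] at hx ⊢
      split_ifs at hx ⊢ with h1
      · obtain ⟨z, hz, hzx⟩ := hx
        refine ⟨((b ⟨z, hQR hz⟩ : R) : Ω), hinvQ b hb _ hz, ?_⟩
        rw [← Subgroup.coe_pow, ← map_pow]
        exact congrArg (fun t => ((b t : R) : Ω)) (Subtype.ext hzx)
      · exact (b x).2
    · intro i hi x hxR hx
      simp only [L] at hx ⊢
      rw [if_pos (by omega : i ≤ n)]
      by_cases h : i < n
      · rw [if_pos (by omega : i + 1 ≤ n)] at hx
        obtain ⟨z, hz, rfl⟩ := hx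
        obtain ⟨w, hw, hwe⟩ := htriv z hz
        refine ⟨w, hw, ?_⟩
        rw [← conj_pow, ← inv_pow, ← Commute.mul_pow (hab _ (Q.inv_mem hz) _ (hgQ z hz)), hwe,
          ← pow_mul, ← pow_succ']
        congr 2
        omega
      · refine ⟨_, hgdispl x hxR, ?_⟩
        rw [show n - i = 0 by omega, pow_zero, pow_one]
  push_neg at htriv
  obtain ⟨x, hx, hxns⟩ := htriv
  have hdQ : x⁻¹ * (g * x * g⁻¹) ∈ Q := Q.mul_mem (Q.inv_mem hx) (hgQ x hx)
  rcases Nat.lt_or_ge n 2 with hn | hn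
  · -- a four-group: `P` would contain a dihedral group
    set d := x⁻¹ * (g * x * g⁻¹) with hd_def
    have hdne : d ≠ 1 := fun h => hxns 1 (one_mem _) (by rw [h, one_pow])
    have hn1 : n = 1 := by
      by_contra hh
      obtain rfl : n = 0 := by omega
      exact hdne (by simpa using hexp d hdQ)
    subst hn1
    have hQ2 : ∀ y ∈ Q, y * y = 1 := fun y hy => by
      have := hexp y hy
      rwa [pow_one, pow_two] at this
    have hQinv : ∀ y ∈ Q, y⁻¹ = y := fun y hy => inv_eq_of_mul_eq_one_left (hQ2 y hy)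
    have hgx : g * x * g⁻¹ = x * d := by rw [hd_def]; group
    have hggx : g ^ 2 * x = x * g ^ 2 := hab _ hg2Q _ hx
    have hgd : g * d * g⁻¹ = d := by
      rw [show g * d * g⁻¹ = (g * x * g⁻¹)⁻¹ * ((g ^ 2 * x) * (g ^ 2)⁻¹) by
        rw [hd_def, pow_two]; group, hggx, mul_inv_cancel_right, hgx, mul_inv_rev,
        hQinv x hx, hQinv d hdQ, mul_assoc, hQ2 x hx, mul_one]
    rcases eq_or_ne (g ^ 2) 1 with hg1 | hg1
    · -- `u = x g`
      have husq : (x * g) ^ 2 = d := by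
        rw [pow_two, show x * g * (x * g) = x * (g * x * g⁻¹) * g ^ 2 by rw [pow_two]; group, hgx,
          hg1, mul_one, ← mul_assoc, hQ2 x hx, one_mul]
      have huord : orderOf (x * g) = 4 :=
        orderOf_eq_prime_pow (p := 2) (n := 1) (by rw [pow_one, husq]; exact hdne) (by
          rw [show (2 : ℕ) ^ (1 + 1) = 2 * 2 by norm_num, pow_mul, husq, pow_two, hQ2 d hdQ])
      refine hpair ⟨x * g, mul_mem hx.2 hgP⟩ ⟨x, hx.2⟩ ?_ (Subtype.ext ?_) (Or.inl (Subtype.ext ?_))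
      · rw [← Subgroup.orderOf_coe]; exact huord
      · show x * (x * g) * x⁻¹ = (x * g)⁻¹
        have hginv : g⁻¹ = g := inv_eq_of_mul_eq_one_left (by rw [← pow_two]; exact hg1)
        rw [← mul_assoc, hQ2 x hx, one_mul, mul_inv_rev, hginv]
      · show x ^ 2 = 1
        rw [pow_two, hQ2 x hx]
    · -- `u = g`
      have hgord : orderOf g = 4 :=
        orderOf_eq_prime_pow (p := 2) (n := 1) (by rw [pow_one]; exact hg1) (by
          rw [show (2 : ℕ) ^ (1 + 1) = 2 * 2 by norm_num, pow_mul, pow_two, hQ2 _ hg2Q])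
      have hgd2 : g ^ 2 = d := by
        by_contra hne2
        have h := four_group (e ⟨g ^ 2, hg2Q⟩) (e ⟨d, hdQ⟩) (e ⟨x, hx⟩)
          (fun h => hg1 (congrArg Subtype.val (e.injective (h.trans (map_one e).symm))))
          (fun h => hdne (congrArg Subtype.val (e.injective (h.trans (map_one e).symm))))
          (fun h => hne2 (congrArg Subtype.val (e.injective h)))
        have hfix : g * x * g⁻¹ = x := by
          rcases h with h | h | h | h
          · rw [show x = 1 from congrArg Subtype.val (e.injective (h.trans (map_one e).symm))]; group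
          · rw [show x = g ^ 2 from congrArg Subtype.val (e.injective h)]; group
          · rw [show x = d from congrArg Subtype.val (e.injective h)]; exact hgd
          · rw [show x = g ^ 2 * d from congrArg Subtype.val (e.injective (h.trans (map_mul e _ _).symm))]
            rw [show g * (g ^ 2 * d) * g⁻¹ = g ^ 2 * (g * d * g⁻¹) by group, hgd]
        exact hdne (by rw [hd_def, hfix, inv_mul_cancel])
      refine hpair ⟨g, hgP⟩ ⟨x, hx.2⟩ ?_ (Subtype.ext ?_) (Or.inl (Subtype.ext ?_))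
      · rw [← Subgroup.orderOf_coe]; exact hgord
      · show x * g * x⁻¹ = g⁻¹
        have h4 : g ^ 4 = 1 := by rw [← hgord, pow_orderOf_eq_one]
        calc x * g * x⁻¹ = g * (g⁻¹ * x * g) * x⁻¹ := by group
          _ = g * (g * x * g⁻¹) * x⁻¹ := by
            have : g⁻¹ * x * g = g * x * g⁻¹ := by
              calc g⁻¹ * x * g = g⁻¹ * (x * g ^ 2) * g⁻¹ := by rw [pow_two]; group
                _ = g * x * g⁻¹ := by rw [← hggx, pow_two]; group
            rw [this]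
          _ = g * g ^ 2 := by
            rw [hgx, hab x hx d hdQ, ← mul_assoc, mul_inv_cancel_right, hgd2]
          _ = g⁻¹ := by
            apply eq_inv_of_mul_eq_one_left
            rw [← pow_succ', ← pow_succ]; exact h4
      · show x ^ 2 = 1
        rw [pow_two, hQ2 x hx]
  · -- no element moves a basis of a homocyclic subgroup
    refine no_swap hm (Q := Q.subgroupOf P) (n := n) hn
      (fun a ha b hb => Subtype.ext (hab a ha b hb)) (fun a ha => Subtype.ext (hexp a ha))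
      (g := ⟨g, hgP⟩) (x := ⟨x, hx.2⟩) (fun y hy => hgQ y hy) hg2Q hx fun h => ?_
    have h' : (x⁻¹ * (g * x * g⁻¹)) ^ 2 ^ (n - 1) = 1 := congrArg Subtype.val h
    -- an element killed by `2 ^ (n - 1)` is a square
    have hsq : ∀ c : Multiplicative (ZMod (2 ^ n)), c ^ 2 ^ (n - 1) = 1 → ∃ w, c = w ^ 2 := by
      intro c hc
      have : NeZero (2 ^ n) := ⟨pow_ne_zero _ two_ne_zero⟩
      set a' := Multiplicative.toAdd c
      have h0 : ((2 ^ (n - 1) * a'.val : ℕ) : ZMod (2 ^ n)) = 0 := by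
        rw [Nat.cast_mul, ZMod.natCast_zmod_val, ← nsmul_eq_mul, ← toAdd_pow, hc, toAdd_one]
      rw [ZMod.natCast_eq_zero_iff] at h0
      nth_rw 1 [show n = n - 1 + 1 by omega] at h0
      rw [pow_succ] at h0
      obtain ⟨b', hb'⟩ := Nat.dvd_of_mul_dvd_mul_left (Nat.two_pow_pos _) h0
      refine ⟨Multiplicative.ofAdd (b' : ZMod (2 ^ n)), Multiplicative.toAdd.injective ?_⟩
      rw [toAdd_pow, toAdd_ofAdd, nsmul_eq_mul, ← Nat.cast_mul, ← hb', ZMod.natCast_zmod_val]
    have he : (e ⟨_, hdQ⟩) ^ 2 ^ (n - 1) = 1 := by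
      rw [← map_pow, show (⟨_, hdQ⟩ : Q) ^ 2 ^ (n - 1) = 1 from Subtype.ext h', map_one]
    obtain ⟨w₁, hw₁⟩ := hsq _ (congrArg Prod.fst he)
    obtain ⟨w₂, hw₂⟩ := hsq _ (congrArg Prod.snd he)
    refine hxns _ (e.symm (w₁, w₂)).2 ?_
    have h2 : (⟨_, hdQ⟩ : Q) = e.symm (w₁, w₂) ^ 2 := by
      rw [← map_pow, MulEquiv.eq_symm_apply]
      exact Prod.ext hw₁ hw₂
    exact congrArg Subtype.val h2

end CfsgLib.MetacyclicFusion
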